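/-
No member of the eight classes contains the special linear group: all proofs use transvections.
-/
import Mathlib
import Cfsg.Agent.Aschbacher.Linear

set_option autoImplicit false
set_option linter.style.haveILetI false

namespace Cfsg.Agent.Aschbacher

open Matrix

variable {ι : Type} [Fintype ι] [DecidableEq ι] {F : Type*} [Field F]

lemma vecMulVec_mulVec' (u φ x : ι → F) : vecMulVec u φ *ᵥ x = (φ ⬝ᵥ x) • u := by
  ext i
  simp only [Matrix.mulVec, vecMulVec_apply, dotProduct, Pi.smul_apply, smul_eq_mul, Finset.sum_mul]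
  exact Finset.sum_congr rfl fun j _ => by ring

lemma vecMulVec_sq {u φ : ι → F} (h : φ ⬝ᵥ u = 0) : vecMulVec u φ * vecMulVec u φ = 0 := by
  apply Matrix.ext_iff_mulVec.2
  intro x
  rw [← Matrix.mulVec_mulVec, vecMulVec_mulVec', vecMulVec_mulVec', dotProduct_smul, h, smul_zero,
    zero_smul, Matrix.zero_mulVec]

/-- The transvection `x ↦ x + φ(x) u`. -/
def trv (u φ : ι → F) (h : φ ⬝ᵥ u = 0) : GL ι F where
  val := 1 + vecMulVec u φ
  inv := 1 - vecMulVec u φ
  val_inv := by rw [add_mul, mul_sub, mul_sub, one_mul, mul_one, one_mul, vecMulVec_sq h]; abel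
  inv_val := by rw [sub_mul, mul_add, mul_add, one_mul, mul_one, one_mul, vecMulVec_sq h]; abel

lemma trv_coe (u φ : ι → F) (h : φ ⬝ᵥ u = 0) :
    ((trv u φ h : GL ι F) : Matrix ι ι F) = 1 + vecMulVec u φ := rfl

lemma trv_inv_coe (u φ : ι → F) (h : φ ⬝ᵥ u = 0) :
    (((trv u φ h)⁻¹ : GL ι F) : Matrix ι ι F) = 1 - vecMulVec u φ := rfl

lemma trv_mulVec (u φ : ι → F) (h : φ ⬝ᵥ u = 0) (x : ι → F) :
    ((trv u φ h : GL ι F) : Matrix ι ι F) *ᵥ x = x + (φ ⬝ᵥ x) • u := by
  rw [trv_coe, Matrix.add_mulVec, Matrix.one_mulVec, vecMulVec_mulVec']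

lemma mem_specialLinear {g : GL ι F} :
    g ∈ Cfsg.Geo.specialLinear ι F ↔ (g : Matrix ι ι F).det = 1 := by
  rw [Cfsg.Geo.specialLinear, MonoidHom.mem_ker, ← Units.val_inj]
  rfl

lemma trv_mem_SL (u φ : ι → F) (h : φ ⬝ᵥ u = 0) : trv u φ h ∈ Cfsg.Geo.specialLinear ι F := by
  rw [mem_specialLinear, trv_coe, vecMulVec_eq Unit, Matrix.det_one_add_replicateCol_mul_replicateRow,
    h, add_zero]

lemma exists_dot {u v : ι → F} (h : v ∉ Submodule.span F {u}) :
    ∃ φ : ι → F, φ ⬝ᵥ u = 0 ∧ φ ⬝ᵥ v = 1 := by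
  obtain ⟨f, hfv, hf⟩ := Submodule.exists_dual_map_eq_bot_of_notMem h inferInstance
  have hfu : f u = 0 := by
    have h1 : f u ∈ (Submodule.span F {u}).map f :=
      Submodule.mem_map_of_mem (Submodule.mem_span_singleton_self u)
    rw [hf] at h1
    exact (Submodule.mem_bot F).1 h1
  have hsum : ∀ x : ι → F, (fun i => f (Pi.single i 1) / f v) ⬝ᵥ x = f x / f v := by
    intro x
    conv_rhs => rw [pi_eq_sum_univ' x]
    rw [map_sum, Finset.sum_div]
    simp only [dotProduct, map_smul, smul_eq_mul]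
    exact Finset.sum_congr rfl fun i _ => by ring
  exact ⟨_, by rw [hsum, hfu, zero_div], by rw [hsum, div_self hfv]⟩

/-- In dimension at least three two vectors have a common non-zero orthogonal vector. -/
lemma exists_dot_orth (hι : 3 ≤ Fintype.card ι) (a b : ι → F) :
    ∃ φ : ι → F, φ ≠ 0 ∧ φ ⬝ᵥ a = 0 ∧ φ ⬝ᵥ b = 0 := by
  let L : (ι → F) →ₗ[F] (Fin 2 → F) :=
    { toFun := fun φ => ![φ ⬝ᵥ a, φ ⬝ᵥ b]
      map_add' := fun x y => by simp [add_dotProduct]
      map_smul' := fun c x => by simp [smul_dotProduct] }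
  have h : LinearMap.ker L ≠ ⊥ := by
    apply LinearMap.ker_ne_bot_of_finrank_lt
    rw [Module.finrank_fintype_fun_eq_card, Module.finrank_fintype_fun_eq_card, Fintype.card_fin]
    omega
  obtain ⟨φ, hφ, hφ0⟩ := Submodule.exists_mem_ne_zero_of_ne_bot h
  rw [LinearMap.mem_ker] at hφ
  exact ⟨φ, hφ0, by simpa [L] using congrFun hφ 0, by simpa [L] using congrFun hφ 1⟩

lemma exists_dot_eq_one {φ : ι → F} (h : φ ≠ 0) : ∃ z : ι → F, φ ⬝ᵥ z = 1 := by
  obtain ⟨i, hi⟩ := Function.ne_iff.1 h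
  exact ⟨Pi.single i (φ i)⁻¹, by rw [dotProduct_single, mul_inv_cancel₀ (by simpa using hi)]⟩

lemma not_mem_span_of {W : Submodule F (ι → F)} {u v : ι → F} (hv : v ∈ W) (hu : u ∉ W)
    (hv0 : v ≠ 0) : v ∉ Submodule.span F {u} := by
  intro h
  obtain ⟨c, rfl⟩ := Submodule.mem_span_singleton.1 h
  have hc : c ≠ 0 := fun hc => hv0 (by rw [hc, zero_smul])
  exact hu (by simpa [smul_smul, inv_mul_cancel₀ hc] using W.smul_mem c⁻¹ hv)

theorem not_SL_le_subspace {W : Submodule F (ι → F)} (h0 : W ≠ ⊥) (h1 : W ≠ ⊤) :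
    ¬ Cfsg.Geo.specialLinear ι F ≤ Cfsg.Geo.subspaceStabilizer W := by
  intro hle
  obtain ⟨v, hv, hv0⟩ := Submodule.exists_mem_ne_zero_of_ne_bot h0
  obtain ⟨u, hu⟩ : ∃ u, u ∉ W := by
    by_contra h
    push Not at h
    exact h1 (eq_top_iff.2 fun x _ => h x)
  obtain ⟨φ, hφu, hφv⟩ := exists_dot (not_mem_span_of hv hu hv0)
  have h2 := (mem_subspaceStabilizer.1 (hle (trv_mem_SL u φ hφu)) v).1 hv
  rw [trv_mulVec, hφv, one_smul] at h2
  exact hu (by simpa using W.sub_mem h2 hv)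

theorem not_SL_le_decomposition {t m : ℕ} {D : Fin t → Submodule F (ι → F)}
    (hD : Cfsg.Geo.IsMDecomposition m D) :
    ¬ Cfsg.Geo.specialLinear ι F ≤ Cfsg.Geo.decompositionStabilizer D := by
  intro hle
  have ht := hD.two_le
  set a : Fin t := ⟨0, by omega⟩
  set b : Fin t := ⟨1, by omega⟩
  have hab : a ≠ b := by simp [a, b]
  have hne : ∀ i, D i ≠ ⊥ := fun i h => by
    have h1 := hD.finrank_eq i
    rw [h, finrank_bot] at h1
    have := hD.pos
    omega
  have hdis : ∀ i j, i ≠ j → ∀ x ∈ D i, x ∈ D j → x = 0 := fun i j hij x hx hy =>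
    Submodule.disjoint_def.1 (hD.indep.pairwiseDisjoint hij) x hx hy
  obtain ⟨v, hv, hv0⟩ := Submodule.exists_mem_ne_zero_of_ne_bot (hne a)
  obtain ⟨u, hu, hu0⟩ := Submodule.exists_mem_ne_zero_of_ne_bot (hne b)
  obtain ⟨φ, hφu, hφv⟩ := exists_dot (not_mem_span_of hv (fun h => hu0 (hdis a b hab u h hu)) hv0)
  obtain ⟨σ, hσ⟩ := hle (trv_mem_SL u φ hφu)
  have h2 : v + u ∈ D (σ a) := by
    rw [← hσ a]
    refine ⟨v, hv, ?_⟩
    rw [Matrix.toLin'_apply, trv_mulVec, hφv, one_smul]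
  by_cases hca : σ a = a
  · rw [hca] at h2
    exact hu0 (hdis a b hab u (by simpa using (D a).sub_mem h2 hv) hu)
  by_cases hcb : σ a = b
  · rw [hcb] at h2
    exact hv0 (hdis a b hab v hv (by simpa using (D b).sub_mem h2 hu))
  have h3 : v + u ∈ ⨆ (j) (_ : j ≠ σ a), D j :=
    add_mem (Submodule.mem_iSup_of_mem a (Submodule.mem_iSup_of_mem (Ne.symm hca) hv))
      (Submodule.mem_iSup_of_mem b (Submodule.mem_iSup_of_mem (Ne.symm hcb) hu))
  have h4 : v + u = 0 := Submodule.disjoint_def.1 (hD.indep (σ a)) _ h2 h3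
  refine hv0 (hdis a b hab v hv ?_)
  rw [eq_neg_of_add_eq_zero_left h4]
  exact (D b).neg_mem hu

lemma mem_scalar_of_commute [Nonempty ι] {k : Matrix ι ι F}
    (h : ∀ i j, i ≠ j → Matrix.single i j (1 : F) * k = k * Matrix.single i j 1) :
    ∃ c : F, k = c • (1 : Matrix ι ι F) := by
  obtain ⟨c, hc⟩ := Matrix.mem_range_scalar_of_commute_single (M := k) fun i j hij => h i j hij
  exact ⟨c, by rw [← hc, Matrix.scalar_apply, Matrix.smul_one_eq_diagonal]⟩

theorem not_SL_le_field [Nonempty ι] (hι : 3 ≤ Fintype.card ι) {r : ℕ} (hr : r.Prime)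
    {K : Subalgebra F (Matrix ι ι F)} (hK : Cfsg.Geo.IsFieldSubalgebra r K) :
    ¬ Cfsg.Geo.specialLinear ι F ≤ Cfsg.Geo.subalgebraNormalizer K := by
  intro hle
  have key : ∀ k ∈ K, ∃ c : F, k = c • (1 : Matrix ι ι F) := by
    intro k hk
    refine mem_scalar_of_commute fun i j hij => ?_
    have h0 : (Pi.single j (1 : F) : ι → F) ⬝ᵥ Pi.single i 1 = 0 := by
      rw [single_dotProduct, Pi.single_eq_of_ne (Ne.symm hij)]; simp
    set t := trv (Pi.single i (1 : F)) (Pi.single j 1) h0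
    have hk' : conjMat t k ∈ K := (hle (trv_mem_SL _ _ h0) k).1 hk
    have heq : conjMat t k = k := by
      by_contra hne
      obtain ⟨y, -, hy⟩ := hK.inv _ (K.sub_mem hk' hk) (sub_ne_zero.2 hne)
      obtain ⟨x, hx0, hx1, hx2⟩ := exists_dot_orth hι (Pi.single j (1 : F)) (Pi.single j 1 ᵥ* k)
      have hfix : ∀ z : ι → F, (Pi.single j 1 : ι → F) ⬝ᵥ z = 0 → (t : Matrix ι ι F) *ᵥ z = z := by
        intro z hz
        rw [trv_mulVec, hz, zero_smul, add_zero]
      have hzero : (conjMat t k - k) *ᵥ x = 0 := by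
        have h1 := conjMat_mulVec t k x
        rw [hfix x (by rw [dotProduct_comm]; exact hx1),
          hfix (k *ᵥ x) (by rw [Matrix.dotProduct_mulVec, dotProduct_comm]; exact hx2)] at h1
        rw [Matrix.sub_mulVec, h1, sub_self]
      have h2 := congrArg (fun M : Matrix ι ι F => M *ᵥ x) (mul_eq_one_comm.1 hy)
      simp only [← Matrix.mulVec_mulVec, hzero, Matrix.mulVec_zero, Matrix.one_mulVec] at h2
      exact hx0 h2.symm
    have h3 := (conjMat_eq_self_iff t k).1 heq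
    rw [trv_coe, add_mul, mul_add, one_mul, mul_one, add_right_inj] at h3
    rw [Matrix.single_eq_single_vecMulVec_single]
    exact h3
  have hbot : K = ⊥ := by
    rw [eq_bot_iff]
    intro k hk
    obtain ⟨c, rfl⟩ := key k hk
    rw [Algebra.mem_bot]
    exact ⟨c, Algebra.algebraMap_eq_smul_one c⟩
  have h1 := hK.finrank_eq
  rw [hbot, Subalgebra.finrank_bot] at h1
  exact hr.one_lt.ne h1

/-- Membership in a conjugate of a reindexed subgroup, in coordinates. -/
lemma mem_of_SL_le_map {κ : Type} [Fintype κ] [DecidableEq κ] (e : ι ≃ κ) (P : GL ι F)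
    {X : Subgroup (GL κ F)}
    (hle : Cfsg.Geo.specialLinear ι F ≤
      (X.map (Cfsg.Geo.glReindex e.symm).toMonoidHom).map (MulAut.conj P).toMonoidHom)
    {g : GL κ F} (hg : g ∈ Cfsg.Geo.specialLinear κ F) : g ∈ X := by
  have h1 : (MulAut.conj P).toMonoidHom ((Cfsg.Geo.glReindex e.symm).toMonoidHom g) ∈
      Cfsg.Geo.specialLinear ι F := by
    rw [mem_specialLinear] at hg ⊢
    rw [MulEquiv.coe_toMonoidHom, MulEquiv.coe_toMonoidHom, MulAut.conj_apply, Units.val_mul,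
      Units.val_mul, coe_glReindex, Matrix.det_units_conj, Matrix.det_submatrix_equiv_self, hg]
  have h2 := hle h1
  obtain ⟨g1, hg1, he1⟩ := Subgroup.mem_map.1 h2
  obtain ⟨g2, hg2, rfl⟩ := Subgroup.mem_map.1 hg1
  exact (Cfsg.Geo.glReindex e.symm).injective ((MulAut.conj P).injective he1) ▸ hg2

/-- The transvection adding the coordinate `q` to the coordinate `p`. -/
def elemTrv (p q : ι) (h : p ≠ q) (a : F) : GL ι F :=
  trv (Pi.single p a) (Pi.single q 1) (by rw [single_dotProduct, Pi.single_eq_of_ne (Ne.symm h)]; simp)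

lemma elemTrv_apply (p q : ι) (h : p ≠ q) (a : F) (x y : ι) :
    ((elemTrv p q h a : GL ι F) : Matrix ι ι F) x y =
      (if x = y then 1 else 0) + (if x = p ∧ y = q then a else 0) := by
  rw [elemTrv, trv_coe, Matrix.add_apply, Matrix.one_apply, vecMulVec_apply]
  congr 1
  by_cases hx : x = p <;> by_cases hy : y = q <;> simp [hx, hy]

theorem not_SL_le_tensor {n₁ n₂ : ℕ} (h1 : 2 ≤ n₁) (h2 : 2 ≤ n₂) (e : ι ≃ Fin n₁ × Fin n₂)
    (P : GL ι F) :
    ¬ Cfsg.Geo.specialLinear ι F ≤ Cfsg.Geo.tensorProductSubgroup n₁ n₂ e P := by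
  intro hle
  set x0 : Fin n₁ := ⟨0, by omega⟩
  set x1 : Fin n₁ := ⟨1, by omega⟩
  set y0 : Fin n₂ := ⟨0, by omega⟩
  set y1 : Fin n₂ := ⟨1, by omega⟩
  have hx : x0 ≠ x1 := by simp [x0, x1]
  have hy : y0 ≠ y1 := by simp [y0, y1]
  have hne : (x0, y0) ≠ (x1, y1) := fun h => hx (congrArg Prod.fst h)
  obtain ⟨a, b, hab⟩ :=
    mem_of_SL_le_map e P hle (g := elemTrv _ _ hne (1 : F)) (trv_mem_SL _ _ _)
  have h00 := congrFun (congrFun hab (x0, y0)) (x0, y0)
  have h01 := congrFun (congrFun hab (x0, y0)) (x1, y1)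
  have h02 := congrFun (congrFun hab (x0, y0)) (x0, y1)
  simp [elemTrv_apply, hx, hy, hy.symm, Prod.ext_iff] at h00 h01 h02
  rcases h02 with h | h
  · rw [h] at h00; simp at h00
  · rw [h] at h01; simp at h01

theorem tensorWreathStandard_entries [Finite F] {m t : ℕ} {g : GL (Fin t → Fin m) F}
    (hg : g ∈ Cfsg.Geo.tensorWreathStandard m t F) :
    ∃ (σ : Equiv.Perm (Fin t)) (a : Fin t → Matrix (Fin m) (Fin m) F), ∀ x y,
      (g : Matrix (Fin t → Fin m) (Fin t → Fin m) F) x y = ∏ i, a i (x i) (y (σ i)) := by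
  classical
  let S : Submonoid (GL (Fin t → Fin m) F) :=
    { carrier := {g | ∃ (σ : Equiv.Perm (Fin t)) (a : Fin t → Matrix (Fin m) (Fin m) F), ∀ x y,
        (g : Matrix (Fin t → Fin m) (Fin t → Fin m) F) x y = ∏ i, a i (x i) (y (σ i))}
      one_mem' := ⟨1, 1, fun x y => by
        rw [Units.val_one]
        exact congrFun (congrFun (map_one (pureTensor (F := F) (m := m) (t := t))).symm x) y⟩
      mul_mem' := by
        rintro g h ⟨σ, a, ha⟩ ⟨τ, b, hb⟩
        refine ⟨σ.trans τ, fun i => a i * b (σ i), fun x y => ?_⟩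
        rw [Units.val_mul, Matrix.mul_apply]
        simp only [ha, hb, Matrix.mul_apply, Equiv.trans_apply]
        rw [Fintype.prod_sum]
        refine Fintype.sum_equiv (Equiv.arrowCongr σ.symm (Equiv.refl (Fin m))) _ _ fun z => ?_
        rw [Finset.prod_mul_distrib]
        congr 1
        exact (Equiv.prod_comp σ (fun j => b j (z j) (y (τ j)))).symm }
  have hS : g ∈ S := by
    unfold Cfsg.Geo.tensorWreathStandard at hg
    rw [← Subgroup.mem_toSubmonoid, Subgroup.closure_toSubmonoid_of_finite] at hg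
    refine (Submonoid.closure_le (S := S)).2 ?_ hg
    rintro x (⟨gs, hgs⟩ | ⟨σ, hσ⟩)
    · exact ⟨1, fun i => gs i, fun x y => hgs x y⟩
    · refine ⟨σ.symm, fun _ => 1, fun u v => ?_⟩
      rw [hσ]
      simp only [Matrix.one_apply]
      by_cases h : v = u ∘ σ
      · rw [if_pos h, h]
        exact (Finset.prod_eq_one fun i _ => by simp).symm
      · rw [if_neg h]
        obtain ⟨i, hi⟩ := Function.ne_iff.1 h
        refine (Finset.prod_eq_zero (Finset.mem_univ (σ i)) (if_neg ?_)).symm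
        simpa [eq_comm] using hi
  exact hS

theorem not_SL_le_wreath [Finite F] {m t : ℕ} (hm : 2 ≤ m) (ht : 2 ≤ t) (e : ι ≃ (Fin t → Fin m))
    (P : GL ι F) : ¬ Cfsg.Geo.specialLinear ι F ≤ Cfsg.Geo.tensorWreathSubgroup m t e P := by
  classical
  intro hle
  set z : Fin m := ⟨0, by omega⟩
  set o : Fin m := ⟨1, by omega⟩
  have hzo : z ≠ o := by simp [z, o]
  set p : Fin t → Fin m := fun _ => z with hp
  set q : Fin t → Fin m := fun _ => o with hq
  set i0 : Fin t := ⟨0, by omega⟩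
  set i1 : Fin t := ⟨1, by omega⟩
  have hi : i0 ≠ i1 := by simp [i0, i1]
  have hpq : p ≠ q := fun h => hzo (congrFun h i0)
  obtain ⟨σ, a, ha⟩ := tensorWreathStandard_entries
    (mem_of_SL_le_map e P hle (g := elemTrv p q hpq (1 : F)) (trv_mem_SL _ _ _))
  set y : Fin t → Fin m := Function.update p i0 o with hy
  have h00 := ha p p
  have h01 := ha p q
  have h02 := ha p y
  rw [elemTrv_apply] at h00 h01 h02
  simp [hpq] at h00 h01
  have hyp : p ≠ y := fun h => hzo (by simpa [hy, hp] using congrFun h i0)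
  have hyq : y ≠ q := fun h => hzo (by
    simpa [hy, hp, hq, Function.update_of_ne hi.symm] using congrFun h i1)
  rw [if_neg hyp, if_neg (fun h => hyq h.2), add_zero, eq_comm, Finset.prod_eq_zero_iff] at h02
  obtain ⟨i, -, hi'⟩ := h02
  by_cases hc : σ i = i0
  · refine one_ne_zero (α := F) (h01.trans (Finset.prod_eq_zero (Finset.mem_univ i) ?_))
    simpa [hy, hp, hq, hc] using hi'
  · refine one_ne_zero (α := F) (h00.trans (Finset.prod_eq_zero (Finset.mem_univ i) ?_))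
    simpa [hy, hp, hq, Function.update_of_ne hc] using hi'

theorem not_SL_le_subfield [Fintype F] {F₀ : Subfield F} {r : ℕ} (hr : r.Prime)
    (hcard : Fintype.card F = Nat.card F₀ ^ r) (P : GL ι F) {p q : ι} (hpq : p ≠ q) :
    ¬ Cfsg.Geo.specialLinear ι F ≤ Cfsg.Geo.subfieldSubgroup F₀ P := by
  intro hle
  obtain ⟨a, ha⟩ : ∃ a : F, a ∉ F₀ := by
    by_contra h
    push Not at h
    have h1 : Nat.card F₀ = Fintype.card F := by
      rw [← Nat.card_eq_fintype_card]
      exact Nat.card_congr (Equiv.subtypeUnivEquiv h)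
    rw [h1] at hcard
    exact absurd hcard.symm (Nat.ne_of_gt (lt_self_pow₀ Fintype.one_lt_card hr.one_lt))
  have h1 : P * elemTrv p q hpq a * P⁻¹ ∈ Cfsg.Geo.specialLinear ι F :=
    (MonoidHom.normal_ker Matrix.GeneralLinearGroup.det).conj_mem _ (trv_mem_SL _ _ _) P
  obtain ⟨x, hx, hxe⟩ := Subgroup.mem_map.1 (hle h1)
  have hxe' : x = elemTrv p q hpq a := by
    apply (MulAut.conj P).injective
    rw [show MulAut.conj P x = (MulAut.conj P).toMonoidHom x from rfl, hxe, MulAut.conj_apply]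
  subst hxe'
  obtain ⟨g, ⟨g₀, rfl⟩, s, hs, hgs⟩ := Subgroup.mem_sup_of_normal_right.1 hx
  obtain ⟨c, hc⟩ := (Cfsg.Geo.mem_scalars_iff s).1 hs
  have hgs' : ∀ i j, ((elemTrv p q hpq a : GL ι F) : Matrix ι ι F) i j =
      (c : F) * ((g₀ : Matrix ι ι F₀) i j : F) := by
    intro i j
    rw [← hgs, Units.val_mul, hc, Matrix.mul_smul, mul_one, Matrix.smul_apply, smul_eq_mul]
    rfl
  have h00 := hgs' p p
  have h01 := hgs' p q
  rw [elemTrv_apply] at h00 h01
  simp [hpq] at h00 h01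
  have hc0 : ((g₀ : Matrix ι ι F₀) p p : F) = (c : F)⁻¹ := eq_inv_of_mul_eq_one_right h00.symm
  apply ha
  rw [h01]
  refine F₀.mul_mem ?_ ((g₀ : Matrix ι ι F₀) p q).2
  have := F₀.inv_mem ((g₀ : Matrix ι ι F₀) p p).2
  rwa [hc0, inv_inv] at this

/-- A matrix having every vector as an eigenvector is scalar. -/
lemma scalar_of_forall_mem_span [Nonempty ι] {x : Matrix ι ι F}
    (h : ∀ v, x *ᵥ v ∈ Submodule.span F {v}) : ∃ c : F, x = c • (1 : Matrix ι ι F) := by
  refine mem_scalar_of_commute fun i j hij => ?_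
  choose c hc using fun v => Submodule.mem_span_singleton.1 (h v)
  have hcol : ∀ i k, x k i = c (Pi.single i 1) * (if k = i then 1 else 0) := by
    intro i k
    have h1 := congrFun (hc (Pi.single i 1)) k
    rw [Matrix.mulVec_single_one] at h1
    simpa [Pi.single_apply] using h1.symm
  have heq : c (Pi.single i 1) = c (Pi.single j 1) := by
    have h1 := hc (Pi.single i 1 + Pi.single j 1)
    rw [Matrix.mulVec_add, ← hc, ← hc] at h1
    have h2 := congrFun h1 i
    have h3 := congrFun h1 j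
    simp [hij, hij.symm] at h2 h3
    rw [← h2, ← h3]
  apply Matrix.ext
  intro a b
  rw [Matrix.mul_apply, Matrix.mul_apply, Finset.sum_eq_single j, Finset.sum_eq_single i]
  · rw [hcol b j, hcol i a]
    by_cases ha : a = i <;> by_cases hb : b = j <;>
      simp [ha, hb, Ne.symm, heq, eq_comm]
  · intro k _ hk
    rw [Matrix.single_apply_of_ne _ _ _ _ _ (fun h => hk h.1.symm), mul_zero]
  · simp
  · intro k _ hk
    rw [Matrix.single_apply_of_ne _ _ _ _ _ (fun h => hk h.2.symm), zero_mul]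
  · simp

theorem not_SL_le_normalizer [Nonempty ι] [Finite F] (hι : 3 ≤ Fintype.card ι) {r p : ℕ}
    (hr : r.Prime) (hp : p.Prime) (hrp : r ≠ p) [CharP F p] {R : Subgroup (GL ι F)}
    (hR : IsPGroup r R) (habs : Cfsg.Geo.ActsAbsolutelyIrreducibly (Cfsg.Geo.matrixSet R)) :
    ¬ Cfsg.Geo.specialLinear ι F ≤ Cfsg.Geo.subgroupNormalizer R := by
  intro hle
  have hscal : ∀ x ∈ R, ∃ c : F, (x : Matrix ι ι F) = c • (1 : Matrix ι ι F) := by
    intro x hx
    refine scalar_of_forall_mem_span fun v => ?_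
    by_contra hv
    have hv0 : v ≠ 0 := by rintro rfl; exact hv (by simp)
    set v' := ((x⁻¹ : GL ι F) : Matrix ι ι F) *ᵥ v with hv'
    set w := (x : Matrix ι ι F) *ᵥ v with hw
    obtain ⟨φ, hφ0, hφv, hφv'⟩ := exists_dot_orth hι v v'
    set t := trv v φ hφv
    set y := x * (t * x⁻¹ * t⁻¹) with hy
    have hyR : y ∈ R :=
      mul_mem hx ((Subgroup.mem_normalizer_iff.1 (hle (trv_mem_SL v φ hφv)) x⁻¹).1 (inv_mem hx))
    set ψ := φ ᵥ* ((x⁻¹ : GL ι F) : Matrix ι ι F) with hψ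
    have hψv : ψ ⬝ᵥ v = 0 := by rw [hψ, ← Matrix.dotProduct_mulVec]; exact hφv'
    have hψw : ψ ⬝ᵥ w = 0 := by
      rw [hψ, hw, ← Matrix.dotProduct_mulVec, Matrix.mulVec_mulVec, Units.inv_mul,
        Matrix.one_mulVec]
      exact hφv
    have hN : ∀ z, ((y : Matrix ι ι F) - 1) *ᵥ z = (ψ ⬝ᵥ z) • w - (φ ⬝ᵥ z) • v := by
      intro z
      rw [Matrix.sub_mulVec, Matrix.one_mulVec, hy, Units.val_mul, Units.val_mul, Units.val_mul,
        trv_coe, trv_inv_coe, ← Matrix.mulVec_mulVec, ← Matrix.mulVec_mulVec, ← Matrix.mulVec_mulVec,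
        Matrix.sub_mulVec, Matrix.one_mulVec, vecMulVec_mulVec', Matrix.add_mulVec, Matrix.one_mulVec,
        vecMulVec_mulVec', Matrix.dotProduct_mulVec φ, ← hψ, Matrix.mulVec_add, Matrix.mulVec_smul,
        Matrix.mulVec_mulVec, Units.mul_inv, Matrix.one_mulVec, ← hw, dotProduct_sub, dotProduct_smul,
        hψv, smul_zero, sub_zero]
      abel
    set N := (y : Matrix ι ι F) - 1
    have hNv : N *ᵥ v = 0 := by rw [hN, hψv, hφv, zero_smul, zero_smul, sub_zero]
    have hN3 : N ^ 3 = 0 := by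
      apply Matrix.ext_iff_mulVec.2
      intro z
      rw [pow_succ, pow_two, ← Matrix.mulVec_mulVec, ← Matrix.mulVec_mulVec, hN z,
        Matrix.mulVec_sub, Matrix.mulVec_smul, Matrix.mulVec_smul, hNv, smul_zero, sub_zero,
        Matrix.mulVec_smul, hN w, hψw, zero_smul, zero_sub, Matrix.mulVec_neg, Matrix.mulVec_smul,
        hNv, smul_zero, neg_zero, smul_zero, Matrix.zero_mulVec]
    haveI : Fact p.Prime := ⟨hp⟩
    have hyp : y ^ p ^ 2 = 1 := by
      apply Units.ext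
      have h1 : N ^ p ^ 2 = 0 := pow_eq_zero_of_le (by nlinarith [hp.two_le]) hN3
      rw [sub_pow_char_pow_of_commute p 2 (Commute.one_right _), one_pow, sub_eq_zero] at h1
      rw [Units.val_pow_eq_pow_val, h1, Units.val_one]
    obtain ⟨k, hk⟩ := hR ⟨y, hyR⟩
    have hyr : y ^ r ^ k = 1 := congrArg Subtype.val hk
    have hy1 : y = 1 := by
      have h1 := pow_gcd_eq_one.2 ⟨hyp, hyr⟩
      rwa [((Nat.coprime_primes hp hr).2 hrp.symm).pow 2 k, pow_one] at h1
    obtain ⟨z, hz⟩ := exists_dot_eq_one hφ0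
    have h2 := hN z
    rw [show N = 0 from sub_eq_zero.2 (congrArg Units.val hy1), Matrix.zero_mulVec, hz, one_smul,
      eq_comm, sub_eq_zero] at h2
    apply hv
    have hc : ψ ⬝ᵥ z ≠ 0 := fun h => hv0 (by rw [← h2, h, zero_smul])
    rw [Submodule.mem_span_singleton]
    exact ⟨(ψ ⬝ᵥ z)⁻¹, by conv_lhs => rw [← h2, smul_smul, inv_mul_cancel₀ hc, one_smul]⟩
  obtain ⟨i, j, hij⟩ := Fintype.exists_pair_of_one_lt_card (α := ι) (by omega)
  have hW : ∀ s ∈ Cfsg.Geo.matrixSet R, ∀ v ∈ Submodule.span F {(Pi.single i 1 : ι → F)},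
      s *ᵥ v ∈ Submodule.span F {(Pi.single i 1 : ι → F)} := by
    rintro _ ⟨s, hs, rfl⟩ v hv
    obtain ⟨c, hc⟩ := hscal s hs
    show (s : Matrix ι ι F) *ᵥ v ∈ _
    rw [hc, smul_mulVec']
    exact Submodule.smul_mem _ _ hv
  rcases (actsIrreducibly_iff _).1 habs.1 _ hW with h | h
  · have := Submodule.span_singleton_eq_bot.1 h
    exact one_ne_zero (α := F) (by simpa using congrFun this i)
  · have h1 : (Pi.single j 1 : ι → F) ∈ Submodule.span F {(Pi.single i 1 : ι → F)} := h ▸ trivial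
    obtain ⟨c, hc⟩ := Submodule.mem_span_singleton.1 h1
    have := congrFun hc j
    simp [hij.symm] at this

/-- A non-zero form, additive on the left, has a similarity group not containing all transvections. -/
theorem not_SL_le_similarity (hι : 3 ≤ Fintype.card ι) {f : (ι → F) → (ι → F) → F}
    (hadd : ∀ x y v, f (x + y) v = f x v + f y v) {a b : ι → F} (hab : f a b ≠ 0) :
    ¬ Cfsg.Geo.specialLinear ι F ≤ Cfsg.Geo.similarityGroup f := by
  intro hle
  obtain ⟨φ, hφ0, hφa, hφb⟩ := exists_dot_orth hι a b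
  obtain ⟨x, hx⟩ := exists_dot_eq_one hφ0
  obtain ⟨c, hc⟩ := hle (trv_mem_SL a φ hφa)
  have hta : ((trv a φ hφa : GL ι F) : Matrix ι ι F) *ᵥ a = a := by
    rw [trv_mulVec, hφa, zero_smul, add_zero]
  have htb : ((trv a φ hφa : GL ι F) : Matrix ι ι F) *ᵥ b = b := by
    rw [trv_mulVec, hφb, zero_smul, add_zero]
  have h1 := hc a b
  rw [hta, htb] at h1
  have hc1 : (c : F) = 1 := (mul_eq_right₀ hab).1 h1.symm
  have h2 := hc x b
  rw [htb, trv_mulVec, hx, one_smul, hc1, one_mul, hadd, add_eq_left] at h2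
  exact hab h2

lemma quadSimilarityGroup_le (Q : (ι → F) → F) :
    Cfsg.Geo.quadSimilarityGroup Q ≤ Cfsg.Geo.similarityGroup (QuadraticMap.polar Q) := by
  rintro g ⟨c, hc⟩
  refine ⟨c, fun u v => ?_⟩
  simp only [QuadraticMap.polar, ← Matrix.mulVec_add, hc]
  ring

lemma exists_ne_zero_of_nondegenerate [Nonempty ι] {f : (ι → F) → (ι → F) → F}
    (h : Cfsg.Geo.IsNondegenerateForm f) : ∃ a b, f a b ≠ 0 := by
  obtain ⟨i⟩ := ‹Nonempty ι›
  obtain ⟨x, hx⟩ := (h (Pi.single i 1) (by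
    intro h0
    exact one_ne_zero (α := F) (by simpa using congrFun h0 i))).2
  exact ⟨_, x, hx⟩

/-- No member of the eight classes contains the special linear group. -/
theorem IsLinMember.not_SL_le [Fintype F] {n : ℕ} (hn : 3 ≤ n) {M : Subgroup (GL (Fin n) F)}
    (hM : IsLinMember n F M) : ¬ Cfsg.Geo.specialLinear (Fin n) F ≤ M := by
  haveI : Nonempty (Fin n) := ⟨⟨0, by omega⟩⟩
  have hι : 3 ≤ Fintype.card (Fin n) := by rwa [Fintype.card_fin]
  rcases hM with ⟨W, h0, h1, rfl⟩ | ⟨W, U, h0, hlt, -, rfl⟩ | ⟨W, U, h0, hi, -, hlt, rfl⟩ |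
    ⟨t, m, D, hD, rfl⟩ | ⟨r, K, hr, hK, rfl⟩ | ⟨n₁, n₂, e, P, h1, h2, rfl⟩ |
    ⟨F₀, r, P, hr, hcard, rfl⟩ | ⟨r, R, hR, -, rfl⟩ | ⟨m, t, e, P, hm, ht, rfl⟩ |
    ⟨f, hf, -, -, rfl⟩ | ⟨σ, f, hf, -, rfl⟩ | ⟨Q, hQ, -, -, rfl⟩
  · exact not_SL_le_subspace h0 h1
  · exact fun h => not_SL_le_subspace h0 (hlt.ne_top) (h.trans inf_le_left)
  · refine fun h => not_SL_le_subspace h0 ?_ (h.trans inf_le_left)
    rintro rfl
    have := Submodule.finrank_le U
    rw [finrank_top] at hlt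
    omega
  · exact not_SL_le_decomposition hD
  · exact not_SL_le_field hι hr hK
  · exact not_SL_le_tensor h1 (by omega) e P
  · exact not_SL_le_subfield hr hcard P (p := ⟨0, by omega⟩) (q := ⟨1, by omega⟩) (by simp)
  · obtain ⟨p, e, hrp, ⟨hp, hchar, -⟩, -⟩ := hR.field
    haveI := hchar
    exact not_SL_le_normalizer hι hR.symplecticType.prime hp hrp hR.symplecticType.pGroup hR.absIrred
  · exact not_SL_le_wreath (by omega) ht e P
  · obtain ⟨a, b, hab⟩ := exists_ne_zero_of_nondegenerate hf.nondegenerate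
    exact not_SL_le_similarity hι hf.bilinear.add_left hab
  · obtain ⟨a, b, hab⟩ := exists_ne_zero_of_nondegenerate hf.nondegenerate
    exact not_SL_le_similarity hι hf.add_left hab
  · obtain ⟨a, b, hab⟩ := exists_ne_zero_of_nondegenerate hQ.nondegenerate
    exact fun h => not_SL_le_similarity hι hQ.polar_bilinear.add_left hab
      (h.trans (quadSimilarityGroup_le Q))

/-- A maximal subgroup of SL is residual or the intersection with a member. -/
theorem maximal_eq_member_inf [Fintype F] {n : ℕ} (hn : 3 ≤ n) {H : Subgroup (GL (Fin n) F)}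
    (hH : Cfsg.Geo.IsMaximalIn (Cfsg.Geo.specialLinear (Fin n) F) H) :
    Cfsg.Geo.InLinearResidualClass H ∨
      ∃ M, IsLinMember n F M ∧ H = M ⊓ Cfsg.Geo.specialLinear (Fin n) F := by
  rcases linear_class_or_residual hn H with ⟨M, hM, hle⟩ | h
  · refine Or.inr ⟨M, hM, ?_⟩
    rcases hH.2 (M ⊓ Cfsg.Geo.specialLinear (Fin n) F) (le_inf hle hH.1.le) inf_le_right with h | h
    · exact h.symm
    · exact absurd (inf_eq_right.1 h) (hM.not_SL_le hn)
  · exact Or.inl h

/-- A member containing a maximal subgroup of SL cuts it out. -/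
theorem eq_inf_of_le_member [Fintype F] {n : ℕ} (hn : 3 ≤ n) {H M : Subgroup (GL (Fin n) F)}
    (hH : Cfsg.Geo.IsMaximalIn (Cfsg.Geo.specialLinear (Fin n) F) H) (hM : IsLinMember n F M)
    (hle : H ≤ M) : H = M ⊓ Cfsg.Geo.specialLinear (Fin n) F := by
  rcases hH.2 (M ⊓ Cfsg.Geo.specialLinear (Fin n) F) (le_inf hle hH.1.le) inf_le_right with h | h
  · exact h.symm
  · exact absurd (inf_eq_right.1 h) (hM.not_SL_le hn)

end Cfsg.Agent.Aschbacher
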