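/-
Decompositions into equal blocks over very small fields: the stabiliser lies in a larger member.
-/
import Mathlib
import Cfsg.Agent.Aschbacher.Lists.Proper

set_option autoImplicit false
set_option linter.style.haveILetI false

namespace Cfsg.Agent.Aschbacher

open Matrix

variable {F : Type*} [Field F] {n t m : ℕ} {D : Fin t → Submodule F (Fin n → F)}

lemma isInternal_of_decomposition (hD : Cfsg.Geo.IsMDecomposition m D) : DirectSum.IsInternal D :=
  DirectSum.isInternal_submodule_of_iSupIndep_of_iSup_eq_top hD.indep hD.iSup_eq_top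

/-- A basis of the space adapted to a decomposition. -/
noncomputable def blockBasis (hD : Cfsg.Geo.IsMDecomposition m D) :
    Module.Basis (Σ _ : Fin t, Fin m) F (Fin n → F) :=
  (isInternal_of_decomposition hD).collectedBasis fun i =>
    Module.finBasisOfFinrankEq F (D i) (hD.finrank_eq i)

lemma card_of_decomposition (hD : Cfsg.Geo.IsMDecomposition m D) : t * m = n := by
  have h := Module.finrank_eq_card_basis (blockBasis hD)
  rw [Module.finrank_fintype_fun_eq_card, Fintype.card_fin, Fintype.card_sigma] at h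
  simp at h
  exact h.symm

lemma blockBasis_mem (hD : Cfsg.Geo.IsMDecomposition m D) (i : Fin t) (k : Fin m) :
    blockBasis hD ⟨i, k⟩ ∈ D i := by
  rw [blockBasis, DirectSum.IsInternal.collectedBasis_coe]
  exact SetLike.coe_mem _

/-- The coordinates of `x` adapted to the decomposition. -/
noncomputable def coord (hD : Cfsg.Geo.IsMDecomposition m D) (x : Fin n → F) (i : Fin t) (k : Fin m) : F :=
  (blockBasis hD).repr x ⟨i, k⟩

lemma coord_add (hD : Cfsg.Geo.IsMDecomposition m D) (x y : Fin n → F) (i : Fin t) (k : Fin m) :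
    coord hD (x + y) i k = coord hD x i k + coord hD y i k := by
  simp [coord]

lemma coord_smul (hD : Cfsg.Geo.IsMDecomposition m D) (c : F) (x : Fin n → F) (i : Fin t) (k : Fin m) :
    coord hD (c • x) i k = c * coord hD x i k := by
  simp [coord]

lemma coord_basis (hD : Cfsg.Geo.IsMDecomposition m D) (i j : Fin t) (k l : Fin m) :
    coord hD (blockBasis hD ⟨j, l⟩) i k = if i = j ∧ k = l then 1 else 0 := by
  rw [coord, Module.Basis.repr_self, Finsupp.single_apply]
  by_cases h : i = j ∧ k = l
  · rw [if_pos h, if_pos (by rw [h.1, h.2])]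
  · rw [if_neg h, if_neg]
    intro h'
    cases h'
    exact h ⟨rfl, rfl⟩

lemma eq_zero_of_coord (hD : Cfsg.Geo.IsMDecomposition m D) {x : Fin n → F}
    (h : ∀ i k, coord hD x i k = 0) : x = 0 :=
  (blockBasis hD).repr.injective (by ext ⟨i, k⟩; rw [map_zero]; exact h i k)

/-- In adapted coordinates a stabilising element permutes the blocks and acts on each by a matrix. -/
theorem exists_blocks (hD : Cfsg.Geo.IsMDecomposition m D) {g : GL (Fin n) F}
    (hg : g ∈ Cfsg.Geo.decompositionStabilizer D) :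
    ∃ (σ : Equiv.Perm (Fin t)) (A : Fin t → Matrix (Fin m) (Fin m) F), (∀ i, (A i).det ≠ 0) ∧
      ∀ x i l, coord hD ((g : Matrix (Fin n) (Fin n) F) *ᵥ x) (σ i) l = ∑ k, A i l k * coord hD x i k := by
  classical
  obtain ⟨σ, hσ⟩ := hg
  set b := blockBasis hD with hb
  set A : Fin t → Matrix (Fin m) (Fin m) F :=
    fun i => Matrix.of fun l k => coord hD ((g : Matrix (Fin n) (Fin n) F) *ᵥ b ⟨i, k⟩) (σ i) l with hA
  have hoff : ∀ i j k l, j ≠ i →
      coord hD ((g : Matrix (Fin n) (Fin n) F) *ᵥ b ⟨j, k⟩) (σ i) l = 0 := by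
    intro i j k l hji
    have hmem : (g : Matrix (Fin n) (Fin n) F) *ᵥ b ⟨j, k⟩ ∈ D (σ j) := by
      rw [← hσ j]
      exact ⟨_, blockBasis_mem hD j k, Matrix.toLin'_apply _ _⟩
    exact DirectSum.IsInternal.collectedBasis_repr_of_mem_ne _ _ (fun h => hji (σ.injective h)) hmem
  have hlin : ∀ x i l, coord hD ((g : Matrix (Fin n) (Fin n) F) *ᵥ x) (σ i) l =
      ∑ k, A i l k * coord hD x i k := by
    intro x i l
    conv_lhs => rw [← b.sum_repr x]
    rw [Matrix.mulVec_sum]
    simp only [coord, map_sum, Finsupp.finset_sum_apply, Matrix.mulVec_smul, map_smul,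
      Finsupp.smul_apply, smul_eq_mul]
    rw [Fintype.sum_sigma, Finset.sum_eq_single i]
    · exact Finset.sum_congr rfl fun k _ => mul_comm _ _
    · intro j _ hj
      exact Finset.sum_eq_zero fun k _ => mul_eq_zero_of_right _ (hoff i j k l hj)
    · simp
  refine ⟨σ, A, fun i hdet => ?_, hlin⟩
  obtain ⟨w, hw0, hw⟩ := Matrix.exists_mulVec_eq_zero_iff.2 hdet
  set x := ∑ k, w k • b ⟨i, k⟩ with hx
  have hxc : ∀ j k, coord hD x j k = if j = i then w k else 0 := by
    intro j k
    rw [hx, coord, map_sum, Finsupp.finset_sum_apply]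
    simp only [map_smul, Finsupp.smul_apply, smul_eq_mul]
    rw [Finset.sum_congr rfl (fun l _ => by
      rw [show b.repr (b ⟨i, l⟩) ⟨j, k⟩ = if j = i ∧ k = l then (1 : F) else 0 from
        coord_basis hD j i k l])]
    by_cases hji : j = i <;> simp [hji]
  have hgx : (g : Matrix (Fin n) (Fin n) F) *ᵥ x = 0 := by
    refine eq_zero_of_coord hD fun j l => ?_
    obtain ⟨j', rfl⟩ := σ.surjective j
    rw [hlin]
    simp only [hxc]
    by_cases hji : j' = i
    · subst hji
      simp only [if_true]
      exact congrFun hw l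
    · simp [hji]
  have hx0 : x = 0 := by
    have := congrArg (fun z => ((g⁻¹ : GL (Fin n) F) : Matrix (Fin n) (Fin n) F) *ᵥ z) hgx
    simpa [Matrix.mulVec_mulVec] using this
  exact hw0 (funext fun k => by
    have := hxc i k
    rw [hx0, if_pos rfl] at this
    rw [← this, coord, map_zero]
    rfl)

/-- The scalars of a decomposition into lines. -/
theorem exists_lines (hD : Cfsg.Geo.IsMDecomposition 1 D) {g : GL (Fin n) F}
    (hg : g ∈ Cfsg.Geo.decompositionStabilizer D) :
    ∃ (σ : Equiv.Perm (Fin t)) (c : Fin t → F), (∀ i, c i ≠ 0) ∧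
      ∀ x i, coord hD ((g : Matrix (Fin n) (Fin n) F) *ᵥ x) (σ i) 0 = c i * coord hD x i 0 := by
  obtain ⟨σ, A, hA, h⟩ := exists_blocks hD hg
  refine ⟨σ, fun i => A i 0 0, fun i => ?_, fun x i => by rw [h, Fin.sum_univ_one]⟩
  simpa using hA i

/-- Over the field of two elements a decomposition into lines fixes a vector. -/
theorem lines_two [Fintype F] (hn : 2 ≤ n) (hD : Cfsg.Geo.IsMDecomposition 1 D)
    (hq : Fintype.card F = 2) :
    ∃ W : Submodule F (Fin n → F), W ≠ ⊥ ∧ W ≠ ⊤ ∧
      Cfsg.Geo.decompositionStabilizer D ≤ Cfsg.Geo.subspaceStabilizer W := by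
  classical
  have hone : ∀ c : F, c ≠ 0 → c = 1 := by
    intro c hc
    have := FiniteField.pow_card_sub_one_eq_one c hc
    rwa [hq, pow_one] at this
  set x := ∑ i : Fin t, blockBasis hD ⟨i, 0⟩ with hx
  have hxc : ∀ i, coord hD x i 0 = 1 := by
    intro i
    have h1 : ∀ j, (blockBasis hD).repr (blockBasis hD ⟨j, 0⟩) ⟨i, 0⟩ =
        if i = j ∧ (0 : Fin 1) = 0 then (1 : F) else 0 := fun j => coord_basis hD i j 0 0
    rw [hx, coord, map_sum, Finsupp.finset_sum_apply]
    simp only [h1]
    simp
  have hx0 : x ≠ 0 := by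
    intro h
    have := hxc ⟨0, by have := hD.two_le; omega⟩
    rw [h, coord, map_zero, Finsupp.zero_apply] at this
    exact zero_ne_one this
  refine ⟨Submodule.span F {x}, fun h => hx0 (Submodule.span_singleton_eq_bot.1 h), fun h => ?_, ?_⟩
  · have h1 := finrank_span_singleton (K := F) hx0
    rw [h, finrank_top, Module.finrank_fintype_fun_eq_card, Fintype.card_fin] at h1
    omega
  · intro g hg
    obtain ⟨σ, c, hc, hlin⟩ := exists_lines hD hg
    have hfix : (g : Matrix (Fin n) (Fin n) F) *ᵥ x = x := by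
      rw [← sub_eq_zero]
      refine eq_zero_of_coord hD fun i k => ?_
      obtain rfl : k = 0 := Subsingleton.elim _ _
      obtain ⟨i', rfl⟩ := σ.surjective i
      have hs : coord hD ((g : Matrix (Fin n) (Fin n) F) *ᵥ x - x) (σ i') 0 =
          coord hD ((g : Matrix (Fin n) (Fin n) F) *ᵥ x) (σ i') 0 - coord hD x (σ i') 0 := by
        simp [coord]
      rw [hs, hlin, hxc, hxc, hone _ (hc i'), mul_one, sub_self]
    refine mem_subspaceStabilizer_of_forall fun v hv => ?_
    obtain ⟨a, rfl⟩ := Submodule.mem_span_singleton.1 hv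
    rw [Matrix.mulVec_smul, hfix]
    exact Submodule.smul_mem _ _ (Submodule.mem_span_singleton_self x)

/-- Over the field of three elements a decomposition into lines preserves a quadratic form. -/
theorem lines_three [Fintype F] (hD : Cfsg.Geo.IsMDecomposition 1 D) (hq : Fintype.card F = 3) :
    ∃ Q : (Fin n → F) → F, Cfsg.Geo.IsNondegenerateQuadraticForm Q ∧
      Cfsg.Geo.decompositionStabilizer D ≤ Cfsg.Geo.quadSimilarityGroup Q := by
  classical
  have h2 : (2 : F) ≠ 0 := by
    intro h2
    haveI : CharP F 2 := (CharP.charP_iff_prime_eq_zero Nat.prime_two).2 h2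
    obtain ⟨k, -, hk⟩ := FiniteField.card F 2
    rw [hq] at hk
    have : Even 3 := hk ▸ Nat.even_pow.2 ⟨even_two, k.pos.ne'⟩
    exact absurd this (by decide)
  let Q : (Fin n → F) → F := fun x => ∑ i, coord hD x i 0 * coord hD x i 0
  have hpolar : ∀ x y, QuadraticMap.polar Q x y = 2 * ∑ i, coord hD x i 0 * coord hD y i 0 := by
    intro x y
    simp only [QuadraticMap.polar, Q, coord_add, ← Finset.sum_sub_distrib, Finset.mul_sum]
    exact Finset.sum_congr rfl fun i _ => by ring
  refine ⟨Q, ⟨fun c v => ?_, ⟨fun x y v => ?_, fun c x v => ?_, fun v x y => ?_, fun c v x => ?_⟩,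
    fun v hv => ?_⟩, fun g hg => ⟨1, fun v => ?_⟩⟩
  · simp only [Q, coord_smul, Finset.mul_sum]
    exact Finset.sum_congr rfl fun i _ => by ring
  · simp only [hpolar, coord_add, add_mul, Finset.sum_add_distrib, mul_add]
  · simp only [hpolar, coord_smul, mul_assoc, ← Finset.mul_sum]; ring
  · simp only [hpolar, coord_add, mul_add, Finset.sum_add_distrib]
  · simp only [hpolar, coord_smul, mul_left_comm _ c, ← Finset.mul_sum]
  · obtain ⟨i, hi⟩ : ∃ i, coord hD v i 0 ≠ 0 := by
      by_contra h
      push Not at h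
      exact hv (eq_zero_of_coord hD fun i k => by rw [Subsingleton.elim k 0]; exact h i)
    refine ⟨⟨blockBasis hD ⟨i, 0⟩, ?_⟩, ⟨blockBasis hD ⟨i, 0⟩, ?_⟩⟩ <;>
      rw [hpolar, Finset.sum_eq_single i (fun j _ hj => by simp [coord_basis, hj])
        (fun h => absurd (Finset.mem_univ i) h), coord_basis] <;>
      simp [h2, hi]
  · obtain ⟨σ, c, hc, hlin⟩ := exists_lines hD hg
    simp only [Q, Units.val_one, one_mul]
    rw [← Equiv.sum_comp σ]
    refine Finset.sum_congr rfl fun i _ => ?_
    have hcc : c i * c i = 1 := by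
      have := FiniteField.pow_card_sub_one_eq_one (c i) (hc i)
      rwa [hq, pow_two] at this
    rw [hlin]
    linear_combination coord hD v i 0 * coord hD v i 0 * hcc

/-- Over the field of four elements a decomposition into lines preserves a hermitian form. -/
theorem lines_four [Fintype F] (hD : Cfsg.Geo.IsMDecomposition 1 D) (hq : Fintype.card F = 4) :
    ∃ (τ : F ≃+* F) (f : (Fin n → F) → (Fin n → F) → F), Cfsg.Geo.IsUnitaryForm τ f ∧
      Cfsg.Geo.decompositionStabilizer D ≤ Cfsg.Geo.similarityGroup f := by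
  classical
  obtain ⟨p, k, hp, hk⟩ : ∃ (p : ℕ) (k : ℕ+), p.Prime ∧ Fintype.card F = p ^ (k : ℕ) ∧ CharP F p := by
    obtain ⟨k, hp, hk⟩ := FiniteField.card F (ringChar F)
    exact ⟨_, k, hp, hk, ringChar.charP F⟩
  obtain ⟨hk, hchar⟩ := hk
  obtain rfl : p = 2 := by
    have : p ∣ 2 ^ 2 := by
      rw [show (2 : ℕ) ^ 2 = 4 from rfl, ← hq, hk]
      exact dvd_pow_self p k.pos.ne'
    exact (Nat.prime_dvd_prime_iff_eq hp Nat.prime_two).1 (hp.dvd_of_dvd_pow this)
  haveI := hchar
  let τ : F ≃+* F := frobeniusEquiv F 2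
  have hτ : ∀ a, τ a = a ^ 2 := fun a => by rw [frobeniusEquiv_apply]; rfl
  have hinv : ∀ a, τ (τ a) = a := by
    intro a
    rw [hτ, hτ, ← pow_mul, show 2 * 2 = Fintype.card F by rw [hq]]
    exact FiniteField.pow_card a
  have hne : τ ≠ RingEquiv.refl F := by
    intro h
    have hle : ∀ a : F, a = 0 ∨ a = 1 := by
      intro a
      have h1 : a ^ 2 = a := by rw [← hτ, h]; rfl
      have h2 : a * (a - 1) = 0 := by linear_combination h1
      exact (mul_eq_zero.1 h2).imp id sub_eq_zero.1
    have h4 : Fintype.card F ≤ Fintype.card Bool :=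
      Fintype.card_le_of_injective (fun a : F => decide (a = 0)) (fun a b hab => by
        rcases hle a with ha | ha <;> rcases hle b with hb | hb <;>
          subst ha <;> subst hb <;>
          first
          | rfl
          | exact absurd hab (by simp))
    rw [hq, Fintype.card_bool] at h4
    omega
  let f : (Fin n → F) → (Fin n → F) → F := fun x y => ∑ i, coord hD x i 0 * τ (coord hD y i 0)
  refine ⟨τ, f, ⟨hne, hinv, fun x y v => ?_, fun c x v => ?_, fun v w => ?_, fun v hv => ?_⟩,
    fun g hg => ⟨1, fun u v => ?_⟩⟩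
  · simp only [f, coord_add, add_mul, Finset.sum_add_distrib]
  · simp only [f, coord_smul, mul_assoc, ← Finset.mul_sum]
  · simp only [f, map_sum, map_mul, hinv]
    exact Finset.sum_congr rfl fun i _ => mul_comm _ _
  · obtain ⟨i, hi⟩ : ∃ i, coord hD v i 0 ≠ 0 := by
      by_contra h
      push Not at h
      exact hv (eq_zero_of_coord hD fun i k => by rw [Subsingleton.elim k 0]; exact h i)
    refine ⟨⟨blockBasis hD ⟨i, 0⟩, ?_⟩, ⟨blockBasis hD ⟨i, 0⟩, ?_⟩⟩ <;>
      simp only [f] <;>
      rw [Finset.sum_eq_single i (fun j _ hj => by simp [coord_basis, hj])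
        (fun h => absurd (Finset.mem_univ i) h), coord_basis] <;>
      simp [hi]
  · obtain ⟨σ, c, hc, hlin⟩ := exists_lines hD hg
    simp only [f, Units.val_one, one_mul]
    rw [← Equiv.sum_comp σ]
    refine Finset.sum_congr rfl fun i _ => ?_
    have hcc : c i * τ (c i) = 1 := by
      have := FiniteField.pow_card_sub_one_eq_one (c i) (hc i)
      rw [hτ]
      rw [hq, show 4 - 1 = 2 + 1 from rfl, pow_succ'] at this
      exact this
    rw [hlin, hlin, map_mul]
    linear_combination coord hD u i 0 * τ (coord hD v i 0) * hcc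

/-- A decomposition into planes whose block determinants agree preserves a symplectic form. -/
theorem planes_symplectic (hD : Cfsg.Geo.IsMDecomposition 2 D) (X : Subgroup (GL (Fin n) F))
    (hX : X ≤ Cfsg.Geo.decompositionStabilizer D)
    (hdet : ∀ g ∈ X, ∀ (σ : Equiv.Perm (Fin t)) (A : Fin t → Matrix (Fin 2) (Fin 2) F),
      (∀ i, (A i).det ≠ 0) →
      (∀ x i l, coord hD ((g : Matrix (Fin n) (Fin n) F) *ᵥ x) (σ i) l = ∑ k, A i l k * coord hD x i k) →
      ∃ c : Fˣ, ∀ i, (A i).det = c) :
    ∃ f : (Fin n → F) → (Fin n → F) → F, Cfsg.Geo.IsSymplecticForm f ∧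
      X ≤ Cfsg.Geo.similarityGroup f := by
  classical
  let f : (Fin n → F) → (Fin n → F) → F := fun x y =>
    ∑ i, (coord hD x i 0 * coord hD y i 1 - coord hD x i 1 * coord hD y i 0)
  refine ⟨f, ⟨⟨fun x y v => ?_, fun c x v => ?_, fun v x y => ?_, fun c v x => ?_⟩, fun v w => ?_,
    fun v => ?_, fun v hv => ?_⟩, fun g hg => ?_⟩
  · simp only [f, coord_add, ← Finset.sum_add_distrib]
    exact Finset.sum_congr rfl fun i _ => by ring
  · simp only [f, coord_smul, Finset.mul_sum]
    exact Finset.sum_congr rfl fun i _ => by ring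
  · simp only [f, coord_add, ← Finset.sum_add_distrib]
    exact Finset.sum_congr rfl fun i _ => by ring
  · simp only [f, coord_smul, Finset.mul_sum]
    exact Finset.sum_congr rfl fun i _ => by ring
  · simp only [f, ← Finset.sum_neg_distrib]
    exact Finset.sum_congr rfl fun i _ => by ring
  · exact Finset.sum_eq_zero fun i _ => by ring
  · obtain ⟨i, k, hi⟩ : ∃ i k, coord hD v i k ≠ 0 := by
      by_contra h
      push Not at h
      exact hv (eq_zero_of_coord hD h)
    set k' : Fin 2 := 1 - k with hk'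
    refine ⟨⟨blockBasis hD ⟨i, k'⟩, ?_⟩, ⟨blockBasis hD ⟨i, k'⟩, ?_⟩⟩ <;>
      simp only [f] <;>
      rw [Finset.sum_eq_single i (fun j _ hj => by simp [coord_basis, hj])
        (fun h => absurd (Finset.mem_univ i) h), coord_basis, coord_basis] <;>
      fin_cases k <;> simp_all
  · obtain ⟨σ, A, hA, hlin⟩ := exists_blocks hD (hX hg)
    obtain ⟨c, hc⟩ := hdet g hg σ A hA hlin
    refine ⟨c, fun u v => ?_⟩
    simp only [f, Finset.mul_sum]
    rw [← Equiv.sum_comp σ]
    refine Finset.sum_congr rfl fun i _ => ?_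
    simp only [hlin, Fin.sum_univ_two, ← hc i, Matrix.det_fin_two]
    ring

/-- Over two elements every decomposition into planes preserves a symplectic form. -/
theorem planes_two [Fintype F] (hD : Cfsg.Geo.IsMDecomposition 2 D) (hq : Fintype.card F = 2) :
    ∃ f : (Fin n → F) → (Fin n → F) → F, Cfsg.Geo.IsSymplecticForm f ∧
      Cfsg.Geo.decompositionStabilizer D ≤ Cfsg.Geo.similarityGroup f := by
  refine planes_symplectic hD _ le_rfl fun g _ σ A hA _ => ⟨1, fun i => ?_⟩
  have := FiniteField.pow_card_sub_one_eq_one _ (hA i)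
  rw [hq, pow_one] at this
  rw [this, Units.val_one]

/-- Over three elements two planes: the special part preserves a symplectic form. -/
theorem planes_three [Fintype F] {D : Fin 2 → Submodule F (Fin n → F)}
    (hD : Cfsg.Geo.IsMDecomposition 2 D) (hq : Fintype.card F = 3) :
    ∃ f : (Fin n → F) → (Fin n → F) → F, Cfsg.Geo.IsSymplecticForm f ∧
      Cfsg.Geo.decompositionStabilizer D ⊓ Cfsg.Geo.specialLinear (Fin n) F ≤
        Cfsg.Geo.similarityGroup f := by
  classical
  refine planes_symplectic hD _ inf_le_left fun g hg σ A hA hlin => ?_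
  have hprod : (A 0).det * (A 1).det = 1 := by
    let e : (Σ _ : Fin 2, Fin 2) ≃ Fin 4 := (Equiv.sigmaEquivProd _ _).trans finProdFinEquiv
    let b := (blockBasis hD).reindex e
    have hdet : (LinearMap.toMatrix b b (Matrix.toLin' (g : Matrix (Fin n) (Fin n) F))).det = 1 := by
      rw [LinearMap.det_toMatrix, LinearMap.det_toLin']
      exact mem_specialLinear.1 hg.2
    have hentry : ∀ i j k l, coord hD ((g : Matrix (Fin n) (Fin n) F) *ᵥ blockBasis hD ⟨j, k⟩) (σ i) l =
        if i = j then A i l k else 0 := by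
      intro i j k l
      rw [hlin, Fin.sum_univ_two, coord_basis, coord_basis]
      fin_cases k <;> by_cases hij : i = j <;> simp [hij]
    have hM : ∀ r s, LinearMap.toMatrix b b (Matrix.toLin' (g : Matrix (Fin n) (Fin n) F)) r s =
        if (σ.symm (e.symm r).1) = (e.symm s).1 then
          A (σ.symm (e.symm r).1) (e.symm r).2 (e.symm s).2 else 0 := by
      intro r s
      rw [LinearMap.toMatrix_apply, Matrix.toLin'_apply]
      simp only [b, Module.Basis.reindex_apply, Module.Basis.repr_reindex_apply]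
      have := hentry (σ.symm (e.symm r).1) (e.symm s).1 (e.symm s).2 (e.symm r).2
      rw [Equiv.apply_symm_apply] at this
      exact this
    have hσ2 : σ = 1 ∨ σ = Equiv.swap 0 1 :=
      (by decide : ∀ s : Equiv.Perm (Fin 2), s = 1 ∨ s = Equiv.swap 0 1) σ
    have e0 : e.symm 0 = ⟨0, 0⟩ := by decide
    have e1 : e.symm 1 = ⟨0, 1⟩ := by decide
    have e2 : e.symm 2 = ⟨1, 0⟩ := by decide
    have e3 : e.symm 3 = ⟨1, 1⟩ := by decide
    rw [← hdet, Matrix.det_fin_two (A 0), Matrix.det_fin_two (A 1), Matrix.det_succ_row_zero]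
    rcases hσ2 with rfl | rfl <;>
      simp [Fin.sum_univ_succ, Matrix.det_fin_three, hM, e0, e1, e2, e3,
        show (1 : Equiv.Perm (Fin 2)).symm = 1 from rfl, Equiv.symm_swap,
        Fin.succAbove] <;>
      ring
  refine ⟨Units.mk0 _ (hA 0), fun i => ?_⟩
  fin_cases i
  · rfl
  · have hsq := FiniteField.pow_card_sub_one_eq_one _ (hA 0)
    rw [hq, pow_two] at hsq
    show (A 1).det = (A 0).det
    linear_combination (A 0).det * hprod - (A 1).det * hsq

end Cfsg.Agent.Aschbacher
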