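/-
Over the field of two elements a tensor decomposition with a two-dimensional factor lies in the
normaliser of a quadratic extension field; the degree of a subfield of the matrix algebra divides
the dimension.
-/
import Mathlib
import Cfsg.Agent.Aschbacher.Lists.Proper

set_option autoImplicit false
set_option linter.style.haveILetI false

namespace Cfsg.Agent.Aschbacher

open Matrix
open scoped Kronecker

variable {F : Type*} [Field F]

theorem dvd_of_isFieldSubalgebra [Finite F] {n : ℕ} (hn : 0 < n) {r : ℕ} (hr : r.Prime)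
    {K : Subalgebra F (Matrix (Fin n) (Fin n) F)} (hK : Cfsg.Geo.IsFieldSubalgebra r K) : r ∣ n := by
  classical
  haveI : Nonempty (Fin n) := ⟨⟨0, hn⟩⟩
  have hF : IsField K :=
    { exists_pair_ne := ⟨0, 1, zero_ne_one⟩
      mul_comm := fun a b => Subtype.ext (hK.comm a a.2 b b.2)
      mul_inv_cancel := fun {a} ha => by
        obtain ⟨y, hy, h⟩ := hK.inv a a.2 fun h => ha (Subtype.ext h)
        exact ⟨⟨y, hy⟩, Subtype.ext h⟩ }
  letI : Field K := hF.toField
  haveI : Finite K := inferInstance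
  haveI : Module.Finite F K := Module.Finite.of_finite
  have h1 := Module.finrank_mul_finrank F K (Matrix (Fin n) (Fin n) F)
  rw [hK.finrank_eq, Module.finrank_matrix, Module.finrank_self, mul_one, Fintype.card_fin] at h1
  exact (hr.dvd_mul.1 (Dvd.intro _ h1)).elim id id

/-- The element of order three of GL_2 of two elements. -/
def omegaTwo (F : Type*) [Field F] : Matrix (Fin 2) (Fin 2) F := !![0, 1; 1, 1]

/-- The field of four elements inside 2 × 2 matrices. -/
def fourField (F : Type*) [Field F] : Subalgebra F (Matrix (Fin 2) (Fin 2) F) where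
  carrier := {x | ∃ a b : F, x = a • 1 + b • omegaTwo F}
  mul_mem' := by
    rintro _ _ ⟨a, b, rfl⟩ ⟨c, d, rfl⟩
    refine ⟨a * c + b * d, a * d + b * c + b * d, ?_⟩
    ext i j
    fin_cases i <;> fin_cases j <;> simp [omegaTwo, Matrix.mul_apply, Fin.sum_univ_two] <;> ring
  add_mem' := by
    rintro _ _ ⟨a, b, rfl⟩ ⟨c, d, rfl⟩
    exact ⟨a + c, b + d, by module⟩
  algebraMap_mem' := fun c => ⟨c, 0, by rw [Algebra.algebraMap_eq_smul_one, zero_smul, add_zero]⟩

lemma forall_two_values [Fintype F] (hq : Fintype.card F = 2) (x : F) : x = 0 ∨ x = 1 := by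
  by_cases hx : x = 0
  · exact Or.inl hx
  · right
    have := FiniteField.pow_card_sub_one_eq_one x hx
    rwa [hq, pow_one] at this

lemma two_eq_zero_of_card [Fintype F] (hq : Fintype.card F = 2) : (1 : F) + 1 = 0 := by
  rcases forall_two_values hq ((1 : F) + 1) with h | h
  · exact h
  · exact absurd (add_eq_left.1 h) one_ne_zero

lemma conj_omega_mem [Fintype F] (hq : Fintype.card F = 2) (a : GL (Fin 2) F) :
    conjMat a (omegaTwo F) ∈ fourField F := by
  have key : (a : Matrix (Fin 2) (Fin 2) F) * omegaTwo F = omegaTwo F * (a : Matrix (Fin 2) (Fin 2) F) ∨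
      (a : Matrix (Fin 2) (Fin 2) F) * omegaTwo F = (omegaTwo F + 1) * (a : Matrix (Fin 2) (Fin 2) F) := by
    have h11 := two_eq_zero_of_card (F := F) hq
    have hdet : (a : Matrix (Fin 2) (Fin 2) F).det ≠ 0 :=
      (Matrix.GeneralLinearGroup.det a).ne_zero
    rw [Matrix.det_fin_two] at hdet
    rcases forall_two_values hq ((a : Matrix (Fin 2) (Fin 2) F) 0 0) with h00 | h00 <;>
      rcases forall_two_values hq ((a : Matrix (Fin 2) (Fin 2) F) 0 1) with h01 | h01 <;>
      rcases forall_two_values hq ((a : Matrix (Fin 2) (Fin 2) F) 1 0) with h10 | h10 <;>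
      rcases forall_two_values hq ((a : Matrix (Fin 2) (Fin 2) F) 1 1) with hh | hh <;>
      first
      | (exfalso; apply hdet; rw [h00, h01, h10, hh]; ring; done)
      | (left; ext i j; fin_cases i <;> fin_cases j <;>
          simp [omegaTwo, Matrix.mul_apply, Fin.sum_univ_two, h00, h01, h10, hh, h11]; done)
      | (right; ext i j; fin_cases i <;> fin_cases j <;>
          simp [omegaTwo, Matrix.mul_apply, Fin.sum_univ_two, h00, h01, h10, hh, h11]; done)
  rcases key with h | h
  · exact ⟨0, 1, by rw [(conjMat_eq_iff_mul a _ _).2 h, zero_smul, zero_add, one_smul]⟩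
  · exact ⟨1, 1, by rw [(conjMat_eq_iff_mul a _ _).2 h, one_smul, one_smul, add_comm]⟩

/-- Over two elements, `GL_2 ⊗ GL_k` normalises a quadratic extension field. -/
theorem tensor_le_field [Fintype F] (hq : Fintype.card F = 2) {n n₂ : ℕ} (hn : 0 < n)
    (e : Fin n ≃ Fin 2 × Fin n₂) (P : GL (Fin n) F) :
    ∃ K : Subalgebra F (Matrix (Fin n) (Fin n) F), Cfsg.Geo.IsFieldSubalgebra 2 K ∧
      Cfsg.Geo.tensorProductSubgroup 2 n₂ e P ≤ Cfsg.Geo.subalgebraNormalizer K := by
  classical
  haveI : Nonempty (Fin n) := ⟨⟨0, hn⟩⟩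
  let K1 : Matrix (Fin 2) (Fin 2) F →ₐ[F] Matrix (Fin 2 × Fin n₂) (Fin 2 × Fin n₂) F :=
    AlgHom.ofLinearMap
      { toFun := fun x => x ⊗ₖ (1 : Matrix (Fin n₂) (Fin n₂) F)
        map_add' := fun x y => Matrix.add_kronecker _ _ _
        map_smul' := fun c x => Matrix.smul_kronecker _ _ _ }
      Matrix.one_kronecker_one
      (fun x y => by
        show (x * y) ⊗ₖ (1 : Matrix (Fin n₂) (Fin n₂) F) = _
        rw [← mul_one (1 : Matrix (Fin n₂) (Fin n₂) F), Matrix.mul_kronecker_mul]
        simp)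
  let Θ : Matrix (Fin 2) (Fin 2) F →ₐ[F] Matrix (Fin n) (Fin n) F :=
    ((conjMat P).toAlgHom.comp (Matrix.reindexAlgEquiv F F e.symm).toAlgHom).comp K1
  have hΘ : ∀ x, Θ x = conjMat P ((x ⊗ₖ (1 : Matrix (Fin n₂) (Fin n₂) F)).submatrix e e) :=
    fun x => rfl
  have hΘinj : Function.Injective Θ := algHom_matrix_injective Θ
  refine ⟨(fourField F).map Θ, ⟨?_, ?_, ?_⟩, ?_⟩
  · rintro _ ⟨_, ⟨a, b, rfl⟩, rfl⟩ _ ⟨_, ⟨c, d, rfl⟩, rfl⟩
    rw [← map_mul, ← map_mul]
    congr 1
    simp only [add_mul, mul_add, Matrix.smul_mul, Matrix.mul_smul, one_mul, mul_one, smul_smul]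
    rw [mul_comm c a, mul_comm d a, mul_comm c b, mul_comm d b]
    abel
  · rintro _ ⟨_, ⟨a, b, rfl⟩, rfl⟩ hne
    have h11 := two_eq_zero_of_card (F := F) hq
    have hinv : ∃ c d : F, (a • 1 + b • omegaTwo F) * (c • 1 + d • omegaTwo F) = 1 := by
      rcases forall_two_values hq a with rfl | rfl <;> rcases forall_two_values hq b with rfl | rfl
      · simp at hne
      · refine ⟨1, 1, ?_⟩
        ext i j
        fin_cases i <;> fin_cases j <;> simp [omegaTwo, Matrix.mul_apply, Fin.sum_univ_two, h11]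
      · exact ⟨1, 0, by simp⟩
      · refine ⟨0, 1, ?_⟩
        ext i j
        fin_cases i <;> fin_cases j <;> simp [omegaTwo, Matrix.mul_apply, Fin.sum_univ_two, h11]
    obtain ⟨c, d, h⟩ := hinv
    exact ⟨Θ _, ⟨_, ⟨c, d, rfl⟩, rfl⟩, (map_mul Θ _ _).symm.trans ((congrArg Θ h).trans (map_one Θ))⟩
  · rw [← (Subalgebra.equivMapOfInjective _ _ hΘinj).toLinearEquiv.finrank_eq]
    let L : (Fin 2 → F) →ₗ[F] Matrix (Fin 2) (Fin 2) F :=
      Fintype.linearCombination F ![1, omegaTwo F]
    have hL : ∀ v, L v = v 0 • 1 + v 1 • omegaTwo F := fun v => by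
      simp [L, Fintype.linearCombination_apply, Fin.sum_univ_two]
    have hrange : LinearMap.range L = Subalgebra.toSubmodule (fourField F) := by
      ext x
      constructor
      · rintro ⟨v, rfl⟩; exact ⟨v 0, v 1, hL v⟩
      · rintro ⟨a, b, rfl⟩; exact ⟨![a, b], by rw [hL]; simp⟩
    have hinj : Function.Injective L := by
      intro v w h
      rw [hL, hL] at h
      have h1 := congrFun (congrFun h 0) 1
      have h0 := congrFun (congrFun h 0) 0
      simp [omegaTwo] at h0 h1
      funext i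
      fin_cases i <;> assumption
    rw [← Subalgebra.finrank_toSubmodule, ← hrange, LinearMap.finrank_range_of_inj hinj,
      Module.finrank_fintype_fun_eq_card, Fintype.card_fin]
  · intro g hg
    obtain ⟨g1, hg1, rfl⟩ := Subgroup.mem_map.1 hg
    obtain ⟨g2, ⟨a, b, hab⟩, rfl⟩ := Subgroup.mem_map.1 hg1
    refine mem_subalgebraNormalizer ?_
    rintro _ ⟨x, hx, rfl⟩
    have hconj : ∀ x, conjMat ((MulAut.conj P).toMonoidHom
        ((Cfsg.Geo.glReindex e.symm).toMonoidHom g2)) (Θ x) = Θ (conjMat a x) := by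
      intro x
      have hgc : glCoord e P ((MulAut.conj P).toMonoidHom
          ((Cfsg.Geo.glReindex e.symm).toMonoidHom g2)) = g2 := by
        apply Units.ext
        rw [glCoord, coe_glReindex]
        simp [MulAut.conj_apply, mul_assoc, coe_glReindex]
      rw [hΘ, hΘ, ← conjMat_glCoord, hgc]
      congr 2
      rw [conjMat_eq_iff_mul, hab, ← Matrix.mul_kronecker_mul, ← Matrix.mul_kronecker_mul,
        one_mul, mul_one, (conjMat_eq_iff_mul a x _).1 rfl]
    refine ⟨conjMat a x, ?_, ?_⟩
    · obtain ⟨c, d, rfl⟩ := hx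
      rw [map_add, map_smul, map_smul, map_one]
      exact (fourField F).add_mem ((fourField F).smul_mem (fourField F).one_mem c)
        ((fourField F).smul_mem (conj_omega_mem hq a) d)
    · exact (hconj x).symm

end Cfsg.Agent.Aschbacher
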