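/-
Maximal subgroups of SL_n(q): the members of the classes that can occur.
-/
import Mathlib
import Cfsg.Agent.Aschbacher.Lists.Blocks
import Cfsg.Agent.Aschbacher.Lists.TensorF2

set_option autoImplicit false
set_option linter.style.haveILetI false

namespace Cfsg.Agent.Aschbacher

open Cfsg.Geo

variable {F : Type*} [Field F] [Fintype F] {n : ℕ}

/-- The members that can contain a maximal subgroup of SL. -/
def IsGoodMember (n : ℕ) (F : Type*) [Field F] [Fintype F] (M : Subgroup (GL (Fin n) F)) : Prop :=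
  (∃ W : Submodule F (Fin n → F), W ≠ ⊥ ∧ W ≠ ⊤ ∧ M = subspaceStabilizer W) ∨
  (∃ (t m : ℕ) (D : Fin t → Submodule F (Fin n → F)), IsMDecomposition m D ∧ t * m = n ∧
      (m = 1 → 5 ≤ Fintype.card F) ∧ (n = 4 → m = 1 → 7 ≤ Fintype.card F) ∧
      (m = 2 → 3 ≤ Fintype.card F) ∧ (n = 4 → m = 2 → 4 ≤ Fintype.card F) ∧
      M = decompositionStabilizer D) ∨
  (∃ (r : ℕ) (K : Subalgebra F (Matrix (Fin n) (Fin n) F)), r.Prime ∧ r ∣ n ∧ IsFieldSubalgebra r K ∧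
      (n = 3 → Fintype.card F ≠ 4) ∧ M = subalgebraNormalizer K) ∨
  (∃ (n₁ n₂ : ℕ) (e : Fin n ≃ Fin n₁ × Fin n₂) (P : GL (Fin n) F), 2 ≤ n₁ ∧ n₁ < n₂ ∧ n = n₁ * n₂ ∧
      (n₁ = 2 → 3 ≤ Fintype.card F) ∧ M = tensorProductSubgroup n₁ n₂ e P) ∨
  (∃ (F₀ : Subfield F) (r : ℕ) (P : GL (Fin n) F), r.Prime ∧ Fintype.card F = Nat.card F₀ ^ r ∧
      M = subfieldSubgroup F₀ P) ∨
  (∃ (r : ℕ) (R : Subgroup (GL (Fin n) F)), IsLinearSymplecticTypeData r R ∧ (∃ k : ℕ, n = r ^ k) ∧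
      M = subgroupNormalizer R) ∨
  (∃ (m t : ℕ) (e : Fin n ≃ (Fin t → Fin m)) (P : GL (Fin n) F), 3 ≤ m ∧ 2 ≤ t ∧ n = m ^ t ∧
      M = tensorWreathSubgroup m t e P) ∨
  (∃ f : (Fin n → F) → (Fin n → F) → F, IsSymplecticForm f ∧ Even n ∧ 4 ≤ n ∧ M = similarityGroup f) ∨
  (∃ (σ : F ≃+* F) (f : (Fin n → F) → (Fin n → F) → F), IsUnitaryForm σ f ∧ M = similarityGroup f) ∨
  (∃ Q : (Fin n → F) → F, IsNondegenerateQuadraticForm Q ∧ Odd (Fintype.card F) ∧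
      M = quadSimilarityGroup Q)

lemma card_ne_six (F : Type*) [Field F] [Fintype F] : Fintype.card F ≠ 6 := by
  intro h
  obtain ⟨k, hp, hk⟩ := FiniteField.card F (ringChar F)
  rw [h] at hk
  set p := ringChar F
  have hdvd : p ∣ 6 := hk ▸ dvd_pow_self p k.pos.ne'
  have h2 : Nat.Coprime (p ^ (k : ℕ)) 2 ∨ Nat.Coprime (p ^ (k : ℕ)) 3 := by
    rcases eq_or_ne p 2 with h2 | h2
    · exact Or.inr (((Nat.coprime_primes hp Nat.prime_three).2 (by omega)).pow_left _)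
    · exact Or.inl (((Nat.coprime_primes hp Nat.prime_two).2 h2).pow_left _)
  rw [← hk] at h2
  rcases h2 with h2 | h2 <;> exact absurd h2 (by decide)

/-- Every member, cut with SL, lies in a good member, given the treatment of the two special cases. -/
theorem exists_good_of_member (hn : 3 ≤ n)
    (hsinger : n = 3 → Fintype.card F = 4 → ∀ K : Subalgebra F (Matrix (Fin n) (Fin n) F),
      IsFieldSubalgebra 3 K →
      ∃ M', IsGoodMember n F M' ∧ subalgebraNormalizer K ⊓ specialLinear (Fin n) F ≤ M')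
    (hfive : n = 4 → Fintype.card F = 5 → ∀ (t : ℕ) (D : Fin t → Submodule F (Fin n → F)),
      IsMDecomposition 1 D →
      ∃ M', IsGoodMember n F M' ∧ decompositionStabilizer D ⊓ specialLinear (Fin n) F ≤ M')
    {M : Subgroup (GL (Fin n) F)} (hM : IsLinMember n F M) :
    ∃ M', IsGoodMember n F M' ∧ M ⊓ specialLinear (Fin n) F ≤ M' := by
  classical
  have hsub : ∀ W : Submodule F (Fin n → F), W ≠ ⊥ → W ≠ ⊤ →
      IsGoodMember n F (subspaceStabilizer W) := fun W h0 h1 => Or.inl ⟨W, h0, h1, rfl⟩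
  have hsymp : ∀ f : (Fin n → F) → (Fin n → F) → F, IsSymplecticForm f → Even n → 4 ≤ n →
      IsGoodMember n F (similarityGroup f) := fun f hf he h4 =>
    Or.inr (Or.inr (Or.inr (Or.inr (Or.inr (Or.inr (Or.inr (Or.inl ⟨f, hf, he, h4, rfl⟩)))))))
  have hherm : ∀ (σ : F ≃+* F) (f : (Fin n → F) → (Fin n → F) → F), IsUnitaryForm σ f →
      IsGoodMember n F (similarityGroup f) := fun σ f hf =>
    Or.inr (Or.inr (Or.inr (Or.inr (Or.inr (Or.inr (Or.inr (Or.inr (Or.inl ⟨σ, f, hf, rfl⟩))))))))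
  have hfield : ∀ K : Subalgebra F (Matrix (Fin n) (Fin n) F), IsFieldSubalgebra 2 K →
      IsGoodMember n F (subalgebraNormalizer K) := fun K hK => by
    have h2 : 2 ∣ n := dvd_of_isFieldSubalgebra (by omega) Nat.prime_two hK
    exact Or.inr (Or.inr (Or.inl ⟨2, K, Nat.prime_two, h2, hK, fun h => by omega, rfl⟩))
  have hq2 : 2 ≤ Fintype.card F := Fintype.one_lt_card
  rcases hM with ⟨W, h0, h1, rfl⟩ | ⟨W, U, h0, hlt, -, rfl⟩ | ⟨W, U, h0, hi, -, hlt, rfl⟩ |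
    ⟨t, m, D, hD, rfl⟩ | ⟨r, K, hr, hK, rfl⟩ | ⟨n₁, n₂, e, P, h1, h2, rfl⟩ |
    ⟨F₀, r, P, hr, hcard, rfl⟩ | ⟨r, R, hR, hk, rfl⟩ | ⟨m, t, e, P, hm, ht, rfl⟩ |
    ⟨f, hf, he, h4, rfl⟩ | ⟨σ, f, hf, -, rfl⟩ | ⟨Q, hQ, hodd, -, rfl⟩
  · exact ⟨_, hsub W h0 h1, inf_le_left⟩
  · exact ⟨_, hsub W h0 hlt.ne_top, inf_le_left.trans inf_le_left⟩
  · refine ⟨_, hsub W h0 ?_, inf_le_left.trans inf_le_left⟩
    rintro rfl
    have := Submodule.finrank_le U
    rw [finrank_top] at hlt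
    omega
  · -- decompositions
    have htm := card_of_decomposition hD
    by_cases hbad : (m = 1 → 5 ≤ Fintype.card F) ∧ (n = 4 → m = 1 → 7 ≤ Fintype.card F) ∧
        (m = 2 → 3 ≤ Fintype.card F) ∧ (n = 4 → m = 2 → 4 ≤ Fintype.card F)
    · exact ⟨_, Or.inr (Or.inl ⟨t, m, D, hD, htm, hbad.1, hbad.2.1, hbad.2.2.1, hbad.2.2.2, rfl⟩),
        inf_le_left⟩
    have hcases : (m = 1 ∧ Fintype.card F = 2) ∨ (m = 1 ∧ Fintype.card F = 3) ∨
        (m = 1 ∧ Fintype.card F = 4) ∨ (n = 4 ∧ m = 1 ∧ Fintype.card F = 5) ∨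
        (m = 2 ∧ Fintype.card F = 2) ∨ (n = 4 ∧ m = 2 ∧ Fintype.card F = 3) := by
      have := card_ne_six F
      omega
    rcases hcases with ⟨rfl, hq⟩ | ⟨rfl, hq⟩ | ⟨rfl, hq⟩ | ⟨h4, rfl, hq⟩ | ⟨rfl, hq⟩ | ⟨h4, rfl, hq⟩
    · obtain ⟨W, h0, h1, hle⟩ := lines_two (by omega) hD hq
      exact ⟨_, hsub W h0 h1, inf_le_left.trans hle⟩
    · obtain ⟨Q, hQ, hle⟩ := lines_three hD hq
      exact ⟨_, Or.inr (Or.inr (Or.inr (Or.inr (Or.inr (Or.inr (Or.inr (Or.inr (Or.inr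
        ⟨Q, hQ, by rw [hq]; decide, rfl⟩)))))))), inf_le_left.trans hle⟩
    · obtain ⟨τ, f, hf, hle⟩ := lines_four hD hq
      exact ⟨_, hherm τ f hf, inf_le_left.trans hle⟩
    · exact hfive h4 hq t D hD
    · obtain ⟨f, hf, hle⟩ := planes_two hD hq
      have := hD.two_le
      exact ⟨_, hsymp f hf ⟨t, by omega⟩ (by omega), inf_le_left.trans hle⟩
    · obtain rfl : t = 2 := by omega
      obtain ⟨f, hf, hle⟩ := planes_three hD hq
      exact ⟨_, hsymp f hf ⟨2, by omega⟩ (by omega), hle⟩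
  · -- fields
    have hdvd := dvd_of_isFieldSubalgebra (by omega) hr hK
    by_cases hbad : n = 3 ∧ Fintype.card F = 4
    · obtain ⟨h3, hq⟩ := hbad
      subst h3
      obtain rfl : r = 3 := (Nat.prime_dvd_prime_iff_eq hr Nat.prime_three).1 hdvd
      exact hsinger rfl hq K hK
    · exact ⟨_, Or.inr (Or.inr (Or.inl ⟨r, K, hr, hdvd, hK, fun h hq => hbad ⟨h, hq⟩, rfl⟩)),
        inf_le_left⟩
  · -- tensor products
    have hnn : n = n₁ * n₂ := by simpa using Fintype.card_congr e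
    by_cases hbad : n₁ = 2 ∧ Fintype.card F = 2
    · obtain ⟨rfl, hq⟩ := hbad
      obtain ⟨K, hK, hle⟩ := tensor_le_field hq (by omega) e P
      exact ⟨_, hfield K hK, inf_le_left.trans hle⟩
    · exact ⟨_, Or.inr (Or.inr (Or.inr (Or.inl ⟨n₁, n₂, e, P, h1, h2, hnn, fun h => by omega, rfl⟩))),
        inf_le_left⟩
  · exact ⟨_, Or.inr (Or.inr (Or.inr (Or.inr (Or.inl ⟨F₀, r, P, hr, hcard, rfl⟩)))), inf_le_left⟩
  · exact ⟨_, Or.inr (Or.inr (Or.inr (Or.inr (Or.inr (Or.inl ⟨r, R, hR, hk, rfl⟩))))), inf_le_left⟩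
  · exact ⟨_, Or.inr (Or.inr (Or.inr (Or.inr (Or.inr (Or.inr (Or.inl
      ⟨m, t, e, P, hm, ht, by simpa using Fintype.card_congr e, rfl⟩)))))), inf_le_left⟩
  · exact ⟨_, hsymp f hf he h4, inf_le_left⟩
  · exact ⟨_, hherm σ f hf, inf_le_left⟩
  · exact ⟨_, Or.inr (Or.inr (Or.inr (Or.inr (Or.inr (Or.inr (Or.inr (Or.inr (Or.inr
      ⟨Q, hQ, hodd, rfl⟩)))))))), inf_le_left⟩

/-- A good member is a member. -/
theorem IsGoodMember.isLinMember (hn : 3 ≤ n) {M : Subgroup (GL (Fin n) F)}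
    (h : IsGoodMember n F M) : IsLinMember n F M := by
  rcases h with h | ⟨t, m, D, hD, -, -, -, -, -, rfl⟩ | ⟨r, K, hr, -, hK, -, rfl⟩ |
    ⟨n₁, n₂, e, P, h1, h2, -, -, rfl⟩ | h | h | ⟨m, t, e, P, hm, ht, -, rfl⟩ | h |
    ⟨σ, f, hf, rfl⟩ | ⟨Q, hQ, hodd, rfl⟩
  · exact Or.inl h
  · exact Or.inr (Or.inr (Or.inr (Or.inl ⟨t, m, D, hD, rfl⟩)))
  · exact Or.inr (Or.inr (Or.inr (Or.inr (Or.inl ⟨r, K, hr, hK, rfl⟩))))
  · exact Or.inr (Or.inr (Or.inr (Or.inr (Or.inr (Or.inl ⟨n₁, n₂, e, P, h1, h2, rfl⟩)))))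
  · exact Or.inr (Or.inr (Or.inr (Or.inr (Or.inr (Or.inr (Or.inl h))))))
  · exact Or.inr (Or.inr (Or.inr (Or.inr (Or.inr (Or.inr (Or.inr (Or.inl h)))))))
  · exact Or.inr (Or.inr (Or.inr (Or.inr (Or.inr (Or.inr (Or.inr (Or.inr (Or.inl
      ⟨m, t, e, P, hm, ht, rfl⟩))))))))
  · exact Or.inr (Or.inr (Or.inr (Or.inr (Or.inr (Or.inr (Or.inr (Or.inr (Or.inr (Or.inl h)))))))))
  · exact Or.inr (Or.inr (Or.inr (Or.inr (Or.inr (Or.inr (Or.inr (Or.inr (Or.inr (Or.inr (Or.inl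
      ⟨σ, f, hf, hn, rfl⟩))))))))))
  · exact Or.inr (Or.inr (Or.inr (Or.inr (Or.inr (Or.inr (Or.inr (Or.inr (Or.inr (Or.inr (Or.inr
      ⟨Q, hQ, hodd, hn, rfl⟩))))))))))

/-- A maximal subgroup of SL is residual or cut out by a good member, given the special cases. -/
theorem maximal_good_of (hn : 3 ≤ n)
    (hsinger : n = 3 → Fintype.card F = 4 → ∀ K : Subalgebra F (Matrix (Fin n) (Fin n) F),
      IsFieldSubalgebra 3 K →
      ∃ M', IsGoodMember n F M' ∧ subalgebraNormalizer K ⊓ specialLinear (Fin n) F ≤ M')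
    (hfive : n = 4 → Fintype.card F = 5 → ∀ (t : ℕ) (D : Fin t → Submodule F (Fin n → F)),
      IsMDecomposition 1 D →
      ∃ M', IsGoodMember n F M' ∧ decompositionStabilizer D ⊓ specialLinear (Fin n) F ≤ M')
    {H : Subgroup (GL (Fin n) F)} (hH : IsMaximalIn (specialLinear (Fin n) F) H) :
    InLinearResidualClass H ∨ ∃ M, IsGoodMember n F M ∧ H = M ⊓ specialLinear (Fin n) F := by
  rcases maximal_eq_member_inf hn hH with h | ⟨M, hM, hHM⟩
  · exact Or.inl h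
  · obtain ⟨M', hM', hle⟩ := exists_good_of_member hn hsinger hfive hM
    exact Or.inr ⟨M', hM', eq_inf_of_le_member hn hH (hM'.isLinMember hn) (hHM.le.trans hle)⟩

/-- A maximal subgroup of SL in dimension at least five. -/
theorem maximal_good (hn : 5 ≤ n) {H : Subgroup (GL (Fin n) F)}
    (hH : IsMaximalIn (specialLinear (Fin n) F) H) :
    InLinearResidualClass H ∨ ∃ M, IsGoodMember n F M ∧ H = M ⊓ specialLinear (Fin n) F :=
  maximal_good_of (by omega) (fun h => by omega) (fun h => by omega) hH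

lemma eq_one_of_field_exponent {p e z : ℕ} {F : Type*} [Field F] [Fintype F]
    (h : IsMinimalFieldFor z p e F) (he : 0 < e) (h1 : z ∣ p - 1) : e = 1 := by
  by_contra hne
  exact h.2.2.2.2 1 one_pos (by omega) (by rwa [pow_one])

end Cfsg.Agent.Aschbacher
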