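/-
In SL_4(5) the monomial group lies in the normaliser of a group of symplectic type.
-/
import Mathlib
import Cfsg.Agent.Aschbacher.Lists.Main

set_option autoImplicit false
set_option linter.style.haveILetI false

namespace Cfsg.Agent.Aschbacher

open Matrix

/-- Addition in the Klein four group on `Fin 4`. -/
def xo : Fin 4 → Fin 4 → Fin 4 := ![![0, 1, 2, 3], ![1, 0, 3, 2], ![2, 3, 0, 1], ![3, 2, 1, 0]]

/-- The characters of the Klein four group on `Fin 4`. -/
def chiZ : Fin 4 → Fin 4 → ℤ := ![![1, 1, 1, 1], ![1, -1, 1, -1], ![1, 1, -1, -1], ![1, -1, -1, 1]]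

/-- The high bit. -/
def hiBit : Fin 4 → Fin 4 := ![0, 0, 2, 2]

/-- The low bit. -/
def loBit : Fin 4 → Fin 4 := ![0, 1, 0, 1]

lemma xo_assoc : ∀ a b c, xo a (xo b c) = xo (xo a b) c := by decide
lemma xo_comm : ∀ a b, xo a b = xo b a := by decide
lemma xo_self : ∀ a, xo a a = 0 := by decide
lemma xo_self_left : ∀ a c, xo a (xo a c) = c := by decide
lemma xo_zero_left : ∀ c, xo 0 c = c := by decide
lemma xo_split : ∀ a, xo (hiBit a) (loBit a) = a := by decide
lemma chiZ_xo : ∀ e a y, chiZ e (xo a y) = chiZ e a * chiZ e y := by decide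
lemma chiZ_mul : ∀ e f y, chiZ (xo e f) y = chiZ e y * chiZ f y := by decide
lemma chiZ_zero : ∀ y, chiZ 0 y = 1 := by decide
lemma chiZ_sq : ∀ e y, chiZ e y * chiZ e y = 1 := by decide
lemma perm_xo : ∀ σ : Equiv.Perm (Fin 4), ∀ a, ∃ a', ∀ y, σ (xo a y) = xo a' (σ y) := by decide

variable {F : Type*} [Field F]

/-- The character with values in the field. -/
def chi (F : Type*) [Field F] (e y : Fin 4) : F := (chiZ e y : F)

lemma chi_xo (e a y : Fin 4) : chi F e (xo a y) = chi F e a * chi F e y := by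
  simp [chi, chiZ_xo e a y]
lemma chi_mul (e f y : Fin 4) : chi F (xo e f) y = chi F e y * chi F f y := by
  simp [chi, chiZ_mul e f y]
lemma chi_zero (y : Fin 4) : chi F 0 y = 1 := by simp [chi, chiZ_zero y]
lemma chi_sq (e y : Fin 4) : chi F e y * chi F e y = 1 := by
  rw [chi, ← Int.cast_mul, chiZ_sq, Int.cast_one]
lemma prod_chi (e : Fin 4) : ∏ y, chi F e y = 1 := by
  fin_cases e <;> simp [Fin.prod_univ_four, chi, chiZ]

/-- The matrix with entry `r y` in position `(f y, y)`. -/
def monMat (f : Fin 4 → Fin 4) (r : Fin 4 → F) : Matrix (Fin 4) (Fin 4) F :=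
  Matrix.of fun x y => if x = f y then r y else 0

lemma monMat_mul (f g : Fin 4 → Fin 4) (r s : Fin 4 → F) :
    monMat f r * monMat g s = monMat (fun y => f (g y)) (fun y => r (g y) * s y) := by
  ext x y
  rw [Matrix.mul_apply, Finset.sum_eq_single (g y)]
  · simp only [monMat, Matrix.of_apply, if_true]
    split_ifs <;> simp
  · intro z _ hz
    simp [monMat, hz]
  · simp

lemma smul_monMat (c : F) (f : Fin 4 → Fin 4) (r : Fin 4 → F) :
    c • monMat f r = monMat f (fun y => c * r y) := by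
  ext x y
  simp [monMat]

lemma monMat_id : monMat id (fun _ => (1 : F)) = 1 := by
  ext x y
  simp [monMat, Matrix.one_apply]

/-- The monomial matrix of `(a, e)`. -/
def pauli (F : Type*) [Field F] (a e : Fin 4) : Matrix (Fin 4) (Fin 4) F := monMat (xo a) (chi F e)

lemma pauli_mul (a e b f : Fin 4) :
    pauli F a e * pauli F b f = chi F e b • pauli F (xo a b) (xo e f) := by
  rw [pauli, pauli, pauli, monMat_mul, smul_monMat]
  congr 1
  · funext y; exact xo_assoc a b y
  · funext y; rw [chi_xo, chi_mul]; ring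

lemma pauli_zero : pauli F 0 0 = 1 := by
  rw [pauli, ← monMat_id]
  congr 1
  · funext y; exact xo_zero_left y
  · funext y; exact chi_zero y

/-- Scalar multiples of the matrices `pauli a e`, as a group. -/
def pauliGroup (F : Type*) [Field F] : Subgroup (GL (Fin 4) F) where
  carrier := {g | ∃ (a e : Fin 4) (c : Fˣ), (g : Matrix (Fin 4) (Fin 4) F) = (c : F) • pauli F a e}
  one_mem' := ⟨0, 0, 1, by rw [Units.val_one, Units.val_one, one_smul, pauli_zero]⟩
  mul_mem' := by
    rintro g h ⟨a, e, c, hg⟩ ⟨b, f, d, hh⟩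
    have hne : chi F e b ≠ 0 := fun h0 => by simpa [h0] using chi_sq (F := F) e b
    refine ⟨xo a b, xo e f, c * d * Units.mk0 _ hne, ?_⟩
    rw [Units.val_mul, hg, hh, Matrix.smul_mul, Matrix.mul_smul, pauli_mul, smul_smul, smul_smul]
    rfl
  inv_mem' := by
    rintro g ⟨a, e, c, hg⟩
    have hne : chi F e a ≠ 0 := fun h0 => by simpa [h0] using chi_sq (F := F) e a
    refine ⟨a, e, c⁻¹ * (Units.mk0 _ hne)⁻¹, Units.inv_eq_of_mul_eq_one_right ?_⟩
    rw [hg, Matrix.smul_mul, Matrix.mul_smul, pauli_mul, smul_smul, smul_smul, xo_self, xo_self,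
      pauli_zero]
    simp only [Units.val_mul, Units.val_inv_eq_inv_val, Units.val_mk0]
    rw [show (c : F) * ((c : F)⁻¹ * (chi F e a)⁻¹) * chi F e a = 1 by
      field_simp, one_smul]

lemma exists_chi_of_sq {r : Fin 4 → F} (h0 : r 0 ≠ 0) (hsq : ∀ y, r y * r y = r 0 * r 0)
    (hprod : ∏ y, r y = r 0 * r 0 * (r 0 * r 0)) : ∃ f, ∀ y, r y = r 0 * chi F f y := by
  have hs : ∀ y, r y = r 0 ∨ r y = -r 0 := by
    intro y
    have h : (r y - r 0) * (r y + r 0) = 0 := by linear_combination hsq y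
    rcases mul_eq_zero.1 h with h | h
    · exact Or.inl (sub_eq_zero.1 h)
    · exact Or.inr (eq_neg_of_add_eq_zero_left h)
  rw [Fin.prod_univ_four] at hprod
  have hne : r 0 * r 0 * (r 0 * r 0) ≠ 0 := mul_ne_zero (mul_ne_zero h0 h0) (mul_ne_zero h0 h0)
  rcases hs 1 with h1 | h1 <;> rcases hs 2 with h2 | h2 <;> rw [h1, h2] at hprod
  · refine ⟨0, fun y => ?_⟩
    have h3 : r 3 = r 0 := mul_left_cancel₀ (mul_ne_zero (mul_ne_zero h0 h0) h0)
      (by linear_combination hprod)
    fin_cases y <;> simp [chi, chiZ, h1, h2, h3]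
  · refine ⟨2, fun y => ?_⟩
    have h3 : r 3 = -r 0 := mul_left_cancel₀ (mul_ne_zero (mul_ne_zero h0 h0) h0)
      (by linear_combination -hprod)
    fin_cases y <;> simp [chi, chiZ, h1, h2, h3]
  · refine ⟨1, fun y => ?_⟩
    have h3 : r 3 = -r 0 := mul_left_cancel₀ (mul_ne_zero (mul_ne_zero h0 h0) h0)
      (by linear_combination -hprod)
    fin_cases y <;> simp [chi, chiZ, h1, h2, h3]
  · refine ⟨3, fun y => ?_⟩
    have h3 : r 3 = r 0 := mul_left_cancel₀ (mul_ne_zero (mul_ne_zero h0 h0) h0)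
      (by linear_combination hprod)
    fin_cases y <;> simp [chi, chiZ, h1, h2, h3]

variable [Fintype F]

lemma pow_four_eq_one (hq : Fintype.card F = 5) {x : F} (hx : x ≠ 0) : x * x * (x * x) = 1 := by
  have := FiniteField.pow_card_sub_one_eq_one x hx
  rw [hq] at this
  linear_combination this

lemma mem_normalizer_of_forall {G : Type*} [Group G] [Finite G] {N : Subgroup G} {g : G}
    (h : ∀ x ∈ N, g * x * g⁻¹ ∈ N) : g ∈ Subgroup.normalizer (N : Set G) := by
  rw [Subgroup.mem_normalizer_iff]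
  intro x
  refine ⟨h x, fun hx => ?_⟩
  have hmap : N.map (MulAut.conj g).toMonoidHom = N := by
    refine Subgroup.eq_of_le_of_card_ge (by rintro _ ⟨z, hz, rfl⟩; exact h z hz) (le_of_eq ?_)
    exact Nat.card_congr (Subgroup.equivMapOfInjective N _ (MulAut.conj g).injective).toEquiv
  rw [← hmap] at hx
  obtain ⟨z, hz, hzx⟩ := hx
  exact (MulAut.conj g).injective hzx ▸ hz

/-- A monomial matrix with determinant plus or minus one normalises the group. -/
theorem monomial_mem_normalizer {g : GL (Fin 4) F} {σ : Equiv.Perm (Fin 4)}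
    {d : Fin 4 → F} (hg : (g : Matrix (Fin 4) (Fin 4) F) = monMat σ d) (hd : ∀ y, d y ≠ 0)
    (hd4 : ∀ y, d y * d y * (d y * d y) = 1) (hdet : (∏ y, d y) * ∏ y, d y = 1) :
    g ∈ Subgroup.normalizer (pauliGroup F : Set (GL (Fin 4) F)) := by
  classical
  refine mem_normalizer_of_forall fun x ⟨a, e, c, hx⟩ => ?_
  obtain ⟨a', ha'⟩ := perm_xo σ a
  -- the squares of the diagonal
  have hds : ∀ a, ∃ k : F, ∀ y, (d (xo a y) * d (xo a y)) * (d y * d y) = k := by
    intro a
    obtain ⟨f, hf⟩ := exists_chi_of_sq (r := fun y => d y * d y) (mul_ne_zero (hd 0) (hd 0))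
      (fun y => by rw [hd4 y, hd4 0])
      (by rw [Finset.prod_mul_distrib, hdet, hd4 0, one_mul])
    refine ⟨chi F f a, fun y => ?_⟩
    have h1 := hf (xo a y)
    have h2 := hf y
    beta_reduce at h1 h2
    rw [h1, h2, chi_xo]
    linear_combination (d 0 * d 0 * (d 0 * d 0) * chi F f a) * chi_sq (F := F) f y +
      chi F f a * hd4 0
  set r : Fin 4 → F := fun z => d (xo a (σ.symm z)) * chi F e (σ.symm z) / d (σ.symm z) with hr
  have hr0 : r 0 ≠ 0 := by
    refine div_ne_zero (mul_ne_zero (hd _) fun h0 => ?_) (hd _)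
    simpa [h0] using chi_sq (F := F) e (σ.symm 0)
  obtain ⟨k, hk⟩ := hds a
  have hrsq : ∀ z, r z * r z = k := by
    intro z
    rw [← hk (σ.symm z), hr]
    have hd0 := hd (σ.symm z)
    field_simp
    linear_combination (d (xo a (σ.symm z))) ^ 2 * chi_sq (F := F) e (σ.symm z) -
      (d (xo a (σ.symm z))) ^ 2 * hd4 (σ.symm z)
  have hprod : ∏ z, r z = r 0 * r 0 * (r 0 * r 0) := by
    have hr4 : r 0 * r 0 * (r 0 * r 0) = 1 := by
      have hd0 := hd (σ.symm 0)
      rw [hr]
      field_simp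
      linear_combination (chi F e (σ.symm 0) * chi F e (σ.symm 0) * (chi F e (σ.symm 0) * chi F e (σ.symm 0))) *
        hd4 (xo a (σ.symm 0)) + (chi F e (σ.symm 0) * chi F e (σ.symm 0) + 1) * chi_sq (F := F) e (σ.symm 0) -
        hd4 (σ.symm 0)
    rw [hr4, hr, Finset.prod_div_distrib, Finset.prod_mul_distrib]
    let xe : Equiv.Perm (Fin 4) := Function.Involutive.toPerm (xo a) (xo_self_left a)
    rw [show (∏ z, d (xo a (σ.symm z))) = ∏ y, d y from Equiv.prod_comp (σ.symm.trans xe) d,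
      Equiv.prod_comp σ.symm (chi F e), prod_chi, mul_one, Equiv.prod_comp σ.symm d,
      div_self (Finset.prod_ne_zero_iff.2 fun y _ => hd y)]
  obtain ⟨f, hf⟩ := exists_chi_of_sq hr0 (fun z => by rw [hrsq, hrsq]) hprod
  refine ⟨a', f, c * Units.mk0 _ hr0, ?_⟩
  have h1 : (g : Matrix (Fin 4) (Fin 4) F) * x =
      (((c * Units.mk0 _ hr0 : Fˣ) : F) • pauli F a' f) * g := by
    rw [hx, hg, pauli, pauli, Matrix.mul_smul, Matrix.smul_mul, monMat_mul, monMat_mul, smul_monMat,
      smul_monMat]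
    congr 1
    · funext y; exact ha' y
    · funext y
      have h2 := hf (σ y)
      simp only [hr, Equiv.symm_apply_apply] at h2
      rw [div_eq_iff (hd y)] at h2
      simp only [Units.val_mul, Units.val_mk0, hr]
      linear_combination (c : F) * h2
  rw [Units.val_mul, Units.val_mul, h1, mul_assoc, ← Units.val_mul, mul_inv_cancel, Units.val_one,
    mul_one]

/-- The integral matrix exchanging the two kinds of generators of the first tensor factor. -/
def hadZ : Matrix (Fin 4) (Fin 4) ℤ := !![1, 0, 1, 0; 0, 1, 0, 1; 1, 0, -1, 0; 0, 1, 0, -1]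

lemma hadZ_rule : ∀ a e : Fin 4, ∃ s : Fin 2, ∀ x y : Fin 4,
    (∑ z, hadZ x z * (if z = xo a y then chiZ e y else 0)) =
      (-1) ^ (s : ℕ) * ∑ z, (if x = xo (xo (hiBit e) (loBit a)) z then
        chiZ (xo (hiBit a) (loBit e)) z else 0) * hadZ z y := by
  decide +kernel

/-- The transformation exchanging the two kinds of generators of the first tensor factor. -/
theorem exists_hadamard (h2 : (2 : F) ≠ 0) :
    ∃ g : GL (Fin 4) F, ∀ a e, ∃ s : Fˣ, (g : Matrix (Fin 4) (Fin 4) F) * pauli F a e =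
      (s : F) • (pauli F (xo (hiBit e) (loBit a)) (xo (hiBit a) (loBit e)) * g) := by
  set Hm : Matrix (Fin 4) (Fin 4) F := hadZ.map (Int.cast : ℤ → F) with hHm
  have hsq : Hm * Hm = (2 : F) • 1 := by
    ext i j
    fin_cases i <;> fin_cases j <;>
      simp [hHm, hadZ, Matrix.mul_apply, Fin.sum_univ_four, one_add_one_eq_two]
  let g : GL (Fin 4) F := ⟨Hm, (2 : F)⁻¹ • Hm,
    by rw [Matrix.mul_smul, hsq, smul_smul, inv_mul_cancel₀ h2, one_smul],
    by rw [Matrix.smul_mul, hsq, smul_smul, inv_mul_cancel₀ h2, one_smul]⟩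
  refine ⟨g, fun a e => ?_⟩
  obtain ⟨s, hs⟩ := hadZ_rule a e
  refine ⟨(-1) ^ (s : ℕ), ?_⟩
  ext x y
  have h := congrArg (Int.cast : ℤ → F) (hs x y)
  push_cast at h
  simp only [g, Matrix.smul_apply, smul_eq_mul, Matrix.mul_apply, pauli, monMat, Matrix.of_apply,
    Units.val_pow_eq_pow_val, Units.val_neg, Units.val_one, hHm, Matrix.map_apply, chi]
  exact h

lemma adjoin_pauliGroup (h2 : (2 : F) ≠ 0) :
    Algebra.adjoin F (Cfsg.Geo.matrixSet (pauliGroup F)) = ⊤ := by
  set A := Algebra.adjoin F (Cfsg.Geo.matrixSet (pauliGroup F))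
  have hmem : ∀ a e, pauli F a e ∈ A := by
    intro a e
    have h1 : pauli F a e * pauli F a e = chi F e a • 1 := by
      rw [pauli_mul, xo_self, xo_self, pauli_zero]
    have hne : chi F e a ≠ 0 := fun h0 => by simpa [h0] using chi_sq (F := F) e a
    let u : GL (Fin 4) F := ⟨pauli F a e, (chi F e a)⁻¹ • pauli F a e,
      by rw [Matrix.mul_smul, h1, smul_smul, inv_mul_cancel₀ hne, one_smul],
      by rw [Matrix.smul_mul, h1, smul_smul, inv_mul_cancel₀ hne, one_smul]⟩
    exact Algebra.subset_adjoin ⟨u, ⟨a, e, 1, by rw [Units.val_one, one_smul]⟩, rfl⟩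
  have hsingle : ∀ i j : Fin 4, Matrix.single i j (1 : F) ∈ A := by
    intro i j
    have h4 : (4 : F) ≠ 0 := by rw [show (4 : F) = 2 * 2 by norm_num]; exact mul_ne_zero h2 h2
    have horth : ∀ j y : Fin 4, ∑ e, chi F e j * chi F e y = if j = y then 4 else 0 := by
      intro j y
      have h := congrArg (Int.cast : ℤ → F)
        ((by decide : ∀ j y : Fin 4, ∑ e, chiZ e j * chiZ e y = if j = y then 4 else 0) j y)
      push_cast at h
      exact h
    have heq : Matrix.single i j (1 : F) = (4 : F)⁻¹ • ∑ e, chi F e j • pauli F (xo i j) e := by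
      ext x y
      rw [Matrix.smul_apply, Matrix.sum_apply]
      simp only [Matrix.smul_apply, smul_eq_mul, pauli, monMat, Matrix.of_apply, mul_ite, mul_zero]
      have hij : xo (xo i j) j = i := (by decide : ∀ i j, xo (xo i j) j = i) i j
      by_cases hx : x = xo (xo i j) y
      · simp only [if_pos hx, horth]
        by_cases hy : j = y
        · subst hy
          rw [hij] at hx
          simp [hx, h4]
        · simp [hy, Matrix.single_apply]
      · simp only [if_neg hx, Finset.sum_const_zero, mul_zero]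
        rw [Matrix.single_apply_of_ne]
        rintro ⟨rfl, rfl⟩
        exact hx hij.symm
    rw [heq]
    exact A.smul_mem (A.sum_mem fun e _ => A.smul_mem (hmem _ _) _) _
  rw [eq_top_iff]
  intro M _
  rw [Matrix.matrix_eq_sum_single M]
  refine A.sum_mem fun i _ => A.sum_mem fun j _ => ?_
  have := A.smul_mem (hsingle i j) (M i j)
  rwa [Matrix.smul_single, smul_eq_mul, mul_one] at this

/-- The group is minimal among the non-scalar subgroups invariant under its normaliser. -/
theorem pauliGroup_minimal (h2 : (2 : F) ≠ 0) {i : F} (hi : i * i = -1)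
    {M : Subgroup (GL (Fin 4) F)} (hZM : Cfsg.Geo.scalars (Fin 4) F ≤ M) (hMN : M ≤ pauliGroup F)
    (hinv : ∀ g ∈ Subgroup.normalizer (pauliGroup F : Set (GL (Fin 4) F)), ∀ x ∈ M, g * x * g⁻¹ ∈ M) :
    M = Cfsg.Geo.scalars (Fin 4) F ∨ M = pauliGroup F := by
  classical
  let S : Fin 4 → Fin 4 → Prop := fun a e =>
    ∃ x ∈ M, ∃ c : Fˣ, (x : Matrix (Fin 4) (Fin 4) F) = (c : F) • pauli F a e
  have hadd : ∀ a e b f, S a e → S b f → S (xo a b) (xo e f) := by
    rintro a e b f ⟨x, hx, c, hc⟩ ⟨y, hy, d, hd⟩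
    have hne : chi F e b ≠ 0 := fun h0 => by simpa [h0] using chi_sq (F := F) e b
    refine ⟨x * y, mul_mem hx hy, c * d * Units.mk0 _ hne, ?_⟩
    rw [Units.val_mul, hc, hd, Matrix.smul_mul, Matrix.mul_smul, pauli_mul, smul_smul, smul_smul]
    rfl
  have hact : ∀ (g : GL (Fin 4) F) (a e a' e' : Fin 4),
      g ∈ Subgroup.normalizer (pauliGroup F : Set (GL (Fin 4) F)) →
      (∃ s : Fˣ, (g : Matrix (Fin 4) (Fin 4) F) * pauli F a e = (s : F) • (pauli F a' e' * g)) →
      S a e → S a' e' := by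
    rintro g a e a' e' hg ⟨s, hs⟩ ⟨x, hx, c, hc⟩
    refine ⟨g * x * g⁻¹, hinv g hg x hx, c * s, ?_⟩
    rw [Units.val_mul, Units.val_mul, hc, Matrix.mul_smul, hs, smul_smul, ← Units.val_mul,
      Matrix.smul_mul, mul_assoc, ← Units.val_mul g, mul_inv_cancel, Units.val_one, mul_one]
  by_cases hall : ∀ a e, S a e → a = 0 ∧ e = 0
  · left
    refine le_antisymm (fun x hx => ?_) hZM
    obtain ⟨a, e, c, hc⟩ := hMN hx
    obtain ⟨rfl, rfl⟩ := hall a e ⟨x, hx, c, hc⟩
    rw [pauli_zero] at hc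
    exact mem_scalars_of_eq_smul x _ hc
  right
  push Not at hall
  obtain ⟨a, e, hae, hne⟩ := hall
  -- the three symmetries
  obtain ⟨gh, hgh⟩ := exists_hadamard (F := F) h2
  have hghN : gh ∈ Subgroup.normalizer (pauliGroup F : Set (GL (Fin 4) F)) := by
    refine mem_normalizer_of_forall fun x ⟨a, e, c, hx⟩ => ?_
    obtain ⟨s, hs⟩ := hgh a e
    refine ⟨xo (hiBit e) (loBit a), xo (hiBit a) (loBit e), c * s, ?_⟩
    rw [Units.val_mul, Units.val_mul, hx, Matrix.mul_smul, hs, smul_smul, ← Units.val_mul,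
      Matrix.smul_mul, mul_assoc, ← Units.val_mul gh, mul_inv_cancel, Units.val_one, mul_one]
  have hH : ∀ a e, S a e → S (xo (hiBit e) (loBit a)) (xo (hiBit a) (loBit e)) := fun a e =>
    hact gh a e _ _ hghN (hgh a e)
  have hi0 : i ≠ 0 := by rintro rfl; simp at hi
  set d : Fin 4 → F := ![1, 1, i, i] with hd
  have hd0 : ∀ y, d y ≠ 0 := by intro y; fin_cases y <;> simp [hd, hi0]
  have hs1 : (monMat (1 : Equiv.Perm (Fin 4)) d).det ≠ 0 := by
    have : monMat (1 : Equiv.Perm (Fin 4)) d = Matrix.diagonal d := by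
      ext x y
      by_cases h : x = y <;> simp [monMat, h]
    rw [this, Matrix.det_diagonal, Finset.prod_ne_zero_iff]
    exact fun y _ => hd0 y
  set gs := Matrix.GeneralLinearGroup.mkOfDetNeZero _ hs1 with hgs
  have hS : ∀ a e, S a e → S a (xo e (hiBit a)) := by
    intro a e h
    refine hact gs a e a _ (monomial_mem_normalizer (g := gs) rfl hd0 (by intro y; fin_cases y <;> simp [hd, hi]) (by
      simp [hd, Fin.prod_univ_four]
      linear_combination (i * i - 1) * hi)) ?_ h
    have hne : (if a = 2 ∨ a = 3 then i else (1 : F)) ≠ 0 := by split_ifs <;> simp [hi0]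
    have hkey : ∀ a y : Fin 4, d (xo a y) =
        (if a = 2 ∨ a = 3 then i else (1 : F)) * chi F (hiBit a) y * d y := by
      intro a y
      fin_cases a <;> fin_cases y <;> simp [hd, xo, chi, chiZ, hiBit, hi]
    refine ⟨Units.mk0 _ hne, ?_⟩
    show monMat (1 : Equiv.Perm (Fin 4)) d * pauli F a e =
      _ • (pauli F a (xo e (hiBit a)) * monMat (1 : Equiv.Perm (Fin 4)) d)
    rw [pauli, pauli, monMat_mul, monMat_mul, smul_monMat, Units.val_mk0]
    congr 1
    funext y
    simp only [Equiv.Perm.coe_one, id, chi_mul]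
    linear_combination chi F e y * hkey a y
  set sw : Equiv.Perm (Fin 4) := Equiv.swap 1 2 with hsw
  have hswdet : (monMat sw (fun _ => (1 : F))).det ≠ 0 := by
    intro h0
    have h1 : monMat sw (fun _ => (1 : F)) * monMat sw (fun _ => (1 : F)) = 1 := by
      rw [monMat_mul, ← monMat_id]
      congr 1
      · funext y; simp [hsw]
      · simp
    have := congrArg Matrix.det h1
    rw [Matrix.det_mul, h0, zero_mul, Matrix.det_one] at this
    exact zero_ne_one this
  set gw := Matrix.GeneralLinearGroup.mkOfDetNeZero _ hswdet with hgw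
  have hW : ∀ a e, S a e → S (sw a) (sw e) := by
    intro a e h
    refine hact gw a e _ _ (monomial_mem_normalizer (g := gw) rfl (fun _ => one_ne_zero) (fun _ => by simp)
      (by simp)) ⟨1, ?_⟩ h
    show monMat sw (fun _ => (1 : F)) * pauli F a e =
      _ • (pauli F (sw a) (sw e) * monMat sw (fun _ => (1 : F)))
    rw [Units.val_one, one_smul, pauli, pauli, monMat_mul, monMat_mul]
    congr 1
    · funext y
      exact (by decide : ∀ a y, Equiv.swap (1 : Fin 4) 2 (xo a y) =
        xo (Equiv.swap 1 2 a) (Equiv.swap 1 2 y)) a y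
    · funext y
      have : chiZ (Equiv.swap 1 2 e) (Equiv.swap 1 2 y) = chiZ e y :=
        (by decide : ∀ e y, chiZ (Equiv.swap (1 : Fin 4) 2 e) (Equiv.swap 1 2 y) = chiZ e y) e y
      simp [hsw, chi, this]
  -- reach (0, 2)
  have hfirst : ∀ a e, hiBit a = 2 → S a e → S 0 2 := by
    intro a e ha h
    have h1 := hadd _ _ _ _ h (hS a e h)
    rw [ha, xo_self, xo_self_left] at h1
    exact h1
  have hsecond : ∀ a e, hiBit a ≠ 0 ∨ hiBit e ≠ 0 → S a e → S 0 2 := by
    intro a e hb h
    rcases (by decide : ∀ a, hiBit a = 0 ∨ hiBit a = 2) a with ha | ha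
    · have he := hb.resolve_left (fun hh => hh ha)
      refine hfirst _ _ ?_ (hadd _ _ _ _ h (hH a e h))
      exact (by decide : ∀ a e, hiBit a = 0 → hiBit e ≠ 0 →
        hiBit (xo a (xo (hiBit e) (loBit a))) = 2) a e ha he
    · exact hfirst a e ha h
  have h02 : S 0 2 := by
    by_cases hb : hiBit a ≠ 0 ∨ hiBit e ≠ 0
    · exact hsecond a e hb hae
    · refine hsecond (sw a) (sw e) ?_ (hW a e hae)
      push Not at hb
      exact (by decide : ∀ a e, hiBit a = 0 ∧ hiBit e = 0 → (a = 0 → e ≠ 0) →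
        hiBit (Equiv.swap (1 : Fin 4) 2 a) ≠ 0 ∨ hiBit (Equiv.swap 1 2 e) ≠ 0) a e hb hne
  have h20 : S 2 0 := hH 0 2 h02
  have h01 : S 0 1 := hW 0 2 h02
  have h10 : S 1 0 := hW 2 0 h20
  have h00 : S 0 0 := ⟨1, one_mem M, 1, by rw [Units.val_one, Units.val_one, one_smul, pauli_zero]⟩
  have hSall : ∀ a e, S a e := by
    have hA : ∀ a, S a 0 := by
      intro a
      fin_cases a
      · exact h00
      · exact h10
      · exact h20
      · exact hadd _ _ _ _ h10 h20
    have hE : ∀ e, S 0 e := by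
      intro e
      fin_cases e
      · exact h00
      · exact h01
      · exact h02
      · exact hadd _ _ _ _ h01 h02
    intro a e
    have := hadd _ _ _ _ (hA a) (hE e)
    rwa [xo_comm a 0, xo_zero_left, xo_zero_left] at this
  refine le_antisymm hMN fun x ⟨a, e, c, hx⟩ => ?_
  obtain ⟨y, hy, c', hy'⟩ := hSall a e
  have : x = scalarUnit (Fin 4) F (c * c'⁻¹) * y := by
    apply Units.ext
    rw [Units.val_mul, scalarUnit_coe, hy', hx, Matrix.smul_mul, one_mul, smul_smul, ← Units.val_mul,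
      inv_mul_cancel_right]
  rw [this]
  exact mul_mem (hZM (scalarUnit_mem _)) hy

/-- The symplectic-type group on a conjugate of the monomial model. -/
theorem exists_symplectic_conj_pauli (Bu : GL (Fin 4) F) (h2 : (2 : F) ≠ 0) {i : F} (hi : i * i = -1) :
    ∃ (G R : Subgroup (GL (Fin 4) F)), SymplecticData G R 2 ∧
      (∀ x ∈ R, ∃ y ∈ pauliGroup F, Bu * y * Bu⁻¹ = x) ∧
      (∀ x ∈ R, ∀ y ∈ R, x * y * x⁻¹ * y⁻¹ ∈ Cfsg.Geo.scalars (Fin 4) F) ∧
      ∀ g₀ ∈ Subgroup.normalizer (pauliGroup F : Set (GL (Fin 4) F)),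
        Bu * g₀ * Bu⁻¹ ∈ Cfsg.Geo.subgroupNormalizer R := by
  classical
  let cj : GL (Fin 4) F →* GL (Fin 4) F := (MulAut.conj Bu).toMonoidHom
  have hcj : ∀ z, z ∈ Cfsg.Geo.scalars (Fin 4) F → cj z ∈ Cfsg.Geo.scalars (Fin 4) F :=
    fun z hz => Subgroup.Normal.conj_mem inferInstance z hz Bu
  set N := (pauliGroup F).map cj with hN
  set G := Subgroup.normalizer (N : Set (GL (Fin 4) F)) with hG
  have hZN : Cfsg.Geo.scalars (Fin 4) F ≤ N := by
    intro z hz
    refine ⟨z, ?_, ?_⟩
    · obtain ⟨c, hc⟩ := (Cfsg.Geo.mem_scalars_iff z).1 hz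
      exact ⟨0, 0, c, by rw [hc, pauli_zero]⟩
    · show Bu * z * Bu⁻¹ = z
      rw [scalars_comm hz, mul_inv_cancel_right]
  have hnorm : ∀ g ∈ G, ∀ x ∈ N, g * x * g⁻¹ ∈ N := fun g hg x hx =>
    (Subgroup.mem_normalizer_iff.1 hg x).1 hx
  have htop : Algebra.adjoin F (Cfsg.Geo.matrixSet N) = ⊤ := by
    have himg : Cfsg.Geo.matrixSet N = (conjMat Bu) '' Cfsg.Geo.matrixSet (pauliGroup F) := by
      ext y
      constructor
      · rintro ⟨_, ⟨x, hx, rfl⟩, rfl⟩
        exact ⟨x, mem_matrixSet hx, conjMat_units Bu x⟩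
      · rintro ⟨_, ⟨x, hx, rfl⟩, rfl⟩
        exact ⟨cj x, Subgroup.mem_map_of_mem cj hx, (conjMat_units Bu x).symm⟩
    rw [himg, ← AlgEquiv.coe_toAlgHom, ← AlgHom.map_adjoin, adjoin_pauliGroup h2, Algebra.map_top,
      AlgHom.range_eq_top]
    exact (conjMat Bu).surjective
  have hcomm0 : ∀ x ∈ pauliGroup F, ∀ y ∈ pauliGroup F,
      x * y * x⁻¹ * y⁻¹ ∈ Cfsg.Geo.scalars (Fin 4) F := by
    rintro x ⟨a, e, c, hx⟩ y ⟨b, f, d, hy⟩
    have hne : ∀ e a, chi F e a ≠ 0 := fun e a h0 => by simpa [h0] using chi_sq (F := F) e a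
    have : x * y = scalarUnit (Fin 4) F (Units.mk0 _ (hne e b) * Units.mk0 _ (hne f a)) * (y * x) := by
      apply Units.ext
      rw [Units.val_mul, Units.val_mul, Units.val_mul, scalarUnit_coe, hx, hy]
      simp only [Matrix.smul_mul, Matrix.mul_smul, one_mul, pauli_mul, smul_smul, Units.val_mul,
        Units.val_mk0, xo_comm b a, xo_comm f e]
      congr 1
      linear_combination (-(c : F) * d * chi F e b) * chi_sq (F := F) f a
    rw [show x * y * x⁻¹ * y⁻¹ = scalarUnit (Fin 4) F (Units.mk0 _ (hne e b) * Units.mk0 _ (hne f a))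
      by rw [this]; group]
    exact scalarUnit_mem _
  obtain ⟨R, hR, hRN, hRrep⟩ := exists_symplecticData (by simp) G N hZN hnorm htop (by
      rintro _ ⟨x, hx, rfl⟩ _ ⟨y, hy, rfl⟩
      rw [← map_mul, ← map_inv, ← map_mul, ← map_inv, ← map_mul]
      exact hcj _ (hcomm0 x hx y hy)) 2 Nat.prime_two (by
      rintro _ ⟨x, ⟨a, e, c, hx⟩, rfl⟩
      rw [← map_pow]
      refine hcj _ (mem_scalars_of_eq_smul _ ((c : F) * c * chi F e a) ?_)
      rw [pow_two, Units.val_mul, hx]
      simp only [Matrix.smul_mul, Matrix.mul_smul, pauli_mul, smul_smul, xo_self, pauli_zero, mul_assoc]) (by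
      intro M hZM hMN hinv
      have hle : M.comap cj ≤ pauliGroup F := by
        intro x hx
        obtain ⟨y, hy, hyx⟩ := hMN hx
        exact (MulAut.conj Bu).injective hyx ▸ hy
      have hM : (M.comap cj).map cj = M :=
        Subgroup.map_comap_eq_self_of_surjective (MulAut.conj Bu).surjective M
      have hZs : (Cfsg.Geo.scalars (Fin 4) F).map cj = Cfsg.Geo.scalars (Fin 4) F :=
        le_antisymm (by rintro _ ⟨z, hz, rfl⟩; exact hcj z hz) fun z hz => ⟨z, hz, by
          show Bu * z * Bu⁻¹ = z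
          rw [scalars_comm hz, mul_inv_cancel_right]⟩
      rcases pauliGroup_minimal h2 hi (M := M.comap cj) (fun z hz => hZM (hcj z hz)) hle (by
        intro g hg x hx
        have hgG : cj g ∈ G := by
          refine mem_normalizer_of_forall ?_
          rintro _ ⟨y, hy, rfl⟩
          rw [← map_inv, ← map_mul, ← map_mul]
          exact Subgroup.mem_map_of_mem cj ((Subgroup.mem_normalizer_iff.1 hg y).1 hy)
        have := hinv (cj g) hgG (cj x) hx
        rwa [← map_inv, ← map_mul, ← map_mul] at this) with h | h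
      · left; rw [← hM, h, hZs]
      · right; rw [← hM, h])
  refine ⟨G, R, hR, fun x hx => hRN hx, fun x hx y hy => ?_, fun g₀ hg₀ => ?_⟩
  · obtain ⟨a, ha, rfl⟩ := hRN hx
    obtain ⟨b, hb, rfl⟩ := hRN hy
    rw [← map_mul, ← map_inv, ← map_mul, ← map_inv, ← map_mul]
    exact hcj _ (hcomm0 a ha b hb)
  · refine mem_normalizer_of_forall (hR.normalized _ (mem_normalizer_of_forall ?_))
    rintro _ ⟨y, hy, rfl⟩
    refine ⟨g₀ * y * g₀⁻¹, (Subgroup.mem_normalizer_iff.1 hg₀ y).1 hy, ?_⟩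
    show Bu * (g₀ * y * g₀⁻¹) * Bu⁻¹ = Bu * g₀ * Bu⁻¹ * (Bu * y * Bu⁻¹) * (Bu * g₀ * Bu⁻¹)⁻¹
    group

/-- The stabiliser of four lines in SL_4(5) lies in a member of symplectic type. -/
theorem monomial_le_symplectic (hq : Fintype.card F = 5) {t : ℕ}
    {D : Fin t → Submodule F (Fin 4 → F)} (hD : Cfsg.Geo.IsMDecomposition 1 D) :
    ∃ M', IsGoodMember 4 F M' ∧
      Cfsg.Geo.decompositionStabilizer D ⊓ Cfsg.Geo.specialLinear (Fin 4) F ≤ M' := by
  classical
  obtain rfl : t = 4 := by simpa using card_of_decomposition hD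
  have h5 : CharP F 5 := by
    obtain ⟨k, hp, hk⟩ := FiniteField.card F (ringChar F)
    have h : ringChar F ∣ 5 := by rw [← hq, hk]; exact dvd_pow_self _ k.pos.ne'
    exact (Nat.prime_dvd_prime_iff_eq hp (by norm_num)).1 h ▸ ringChar.charP F
  have h2 : (2 : F) ≠ 0 := by
    intro h
    have := (CharP.cast_eq_zero_iff F 5 2).1 (by exact_mod_cast h)
    omega
  have hi : (2 : F) * 2 = -1 := by
    have := CharP.cast_eq_zero F 5
    push_cast at this
    linear_combination this
  -- the change of coordinates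
  set B : Matrix (Fin 4) (Fin 4) F := Matrix.of fun x i => blockBasis hD ⟨i, 0⟩ x with hB
  have hBcol : ∀ i, B *ᵥ Pi.single i 1 = blockBasis hD ⟨i, 0⟩ := fun i => by
    rw [Matrix.mulVec_single_one]; rfl
  have hBdet : B.det ≠ 0 := by
    intro h
    obtain ⟨v, hv, hv0⟩ := Matrix.exists_mulVec_eq_zero_iff.2 h
    apply hv
    funext i
    have : coord hD (B *ᵥ v) i 0 = v i := by
      conv_lhs => rw [pi_eq_sum_univ' v, Matrix.mulVec_sum]
      simp only [Matrix.mulVec_smul, hBcol, coord, map_sum, map_smul, Finsupp.finset_sum_apply,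
        Finsupp.smul_apply, smul_eq_mul]
      rw [Finset.sum_eq_single i]
      · have := coord_basis hD i i 0 0
        rw [coord] at this
        rw [this]; simp
      · intro j _ hj
        have := coord_basis hD i j 0 0
        rw [coord] at this
        rw [this, if_neg (fun hh => hj hh.1.symm), mul_zero]
      · simp
    rw [← this, hv0, coord, map_zero]
    rfl
  set Bu : GL (Fin 4) F := Matrix.GeneralLinearGroup.mkOfDetNeZero B hBdet with hBu
  obtain ⟨G, R, hR, -, -, hnormR⟩ := exists_symplectic_conj_pauli Bu h2 hi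
  -- R gives a member
  obtain ⟨m, hm, hnm, hcardR⟩ := hR.exists_m
  have hz4 : Nat.card (Subgroup.center R) = 4 := by
    rw [hR.card_center, Nat.card_units, Nat.card_eq_fintype_card, hq]
    decide
  have hdata : Cfsg.Geo.IsLinearSymplecticTypeData 2 R := by
    refine ⟨hR.symplecticType, absIrred_of_adjoin_eq_top hR.adjoin_top, 5, 1, by decide,
      ⟨by norm_num, h5, by rw [hq]; rfl, by rw [hz4]; decide, fun d h0 h1 => by omega⟩,
      Or.inr (Or.inl ⟨rfl, rfl, hz4, by simp, m, ?_⟩)⟩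
    rw [hcardR, hz4, pow_add]
    norm_num
  refine ⟨Cfsg.Geo.subgroupNormalizer R, Or.inr (Or.inr (Or.inr (Or.inr (Or.inr (Or.inl
    ⟨2, R, hdata, ⟨2, rfl⟩, rfl⟩))))), ?_⟩
  rintro g ⟨hgD, hgdet⟩
  obtain ⟨σ, c, hc, hlin⟩ := exists_lines hD hgD
  set g0 := Bu⁻¹ * g * Bu with hg0
  have hgB : (g : Matrix (Fin 4) (Fin 4) F) * B = B * monMat σ c := by
    apply Matrix.ext_col
    intro j
    rw [← Matrix.mulVec_single_one _ j, ← Matrix.mulVec_single_one _ j, ← Matrix.mulVec_mulVec,
      ← Matrix.mulVec_mulVec, hBcol]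
    have h1 : monMat σ c *ᵥ Pi.single j 1 = c j • Pi.single (σ j) 1 := by
      funext x
      rw [Matrix.mulVec_single_one]
      by_cases h : x = σ j <;> simp [monMat, Matrix.col, h]
    rw [h1, Matrix.mulVec_smul, hBcol, ← sub_eq_zero]
    refine eq_zero_of_coord hD fun x k => ?_
    obtain rfl : k = 0 := Subsingleton.elim _ _
    obtain ⟨x', rfl⟩ := σ.surjective x
    rw [sub_eq_add_neg, coord_add, ← neg_one_smul F, coord_smul, coord_smul, hlin, coord_basis,
      coord_basis]
    by_cases h : x' = j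
    · subst h; simp
    · simp [h]
  have hg0m : (g0 : Matrix (Fin 4) (Fin 4) F) = monMat σ c := by
    rw [hg0, Units.val_mul, Units.val_mul, mul_assoc,
      show ((Bu : GL (Fin 4) F) : Matrix (Fin 4) (Fin 4) F) = B from rfl, hgB, ← mul_assoc,
      show B = ((Bu : GL (Fin 4) F) : Matrix (Fin 4) (Fin 4) F) from rfl, Units.inv_mul, one_mul]
  have hdet : (monMat σ c).det = 1 := by
    rw [← hg0m, hg0, Units.val_mul, Units.val_mul, Matrix.det_units_conj']
    exact mem_specialLinear.1 hgdet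
  have hprod : (∏ y, c y) * ∏ y, c y = 1 := by
    have h1 : monMat σ c = (σ⁻¹ : Equiv.Perm (Fin 4)).permMatrix F * Matrix.diagonal c := by
      ext x y
      rw [Matrix.mul_diagonal]
      by_cases h : x = σ y
      · subst h; simp [monMat, Equiv.Perm.permMatrix, PEquiv.toMatrix_apply]
      · have h' : σ.symm x ≠ y := fun hh => h (by rw [← hh, Equiv.apply_symm_apply])
        simp [monMat, Equiv.Perm.permMatrix, PEquiv.toMatrix_apply, h, h']
    rw [h1, Matrix.det_mul, Matrix.det_permutation, Matrix.det_diagonal] at hdet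
    rcases Int.units_eq_one_or (Equiv.Perm.sign σ⁻¹) with hs | hs <;> rw [hs] at hdet <;>
      push_cast at hdet
    · linear_combination ((∏ y, c y) + 1) * hdet
    · linear_combination ((-1 : F) * (∏ y, c y) + 1) * hdet
  have hg0N := monomial_mem_normalizer hg0m hc (fun y => pow_four_eq_one hq (hc y)) hprod
  have := hnormR g0 hg0N
  rwa [hg0, show Bu * (Bu⁻¹ * g * Bu) * Bu⁻¹ = g by group] at this

end Cfsg.Agent.Aschbacher
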