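/-
Arithmetic for members of symplectic type and tensor-wreath type in small dimensions.
-/
import Mathlib
import Cfsg.Agent.Aschbacher.Lists.Main

set_option autoImplicit false
set_option linter.style.haveILetI false

namespace Cfsg.Agent.Aschbacher

open Cfsg.Geo

variable {F : Type*} [Field F] [Fintype F] {n : ℕ}

lemma eq_of_prime_dvd_pow {r q k n : ℕ} (hr : r.Prime) (hn : n = r ^ k) (hq : q.Prime) (hqn : q ∣ n) :
    q = r :=
  (Nat.prime_dvd_prime_iff_eq hq hr).1 (hq.dvd_of_dvd_pow (hn ▸ hqn))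

theorem symplectic_odd {r : ℕ} (hr2 : r ≠ 2) {R : Subgroup (GL (Fin n) F)}
    (h : IsLinearSymplecticTypeData r R) :
    ∃ p e : ℕ, p.Prime ∧ CharP F p ∧ Fintype.card F = p ^ e ∧ Odd e ∧ e ∣ r - 1 ∧
      p ^ e % r = 1 ∧ (1 < e → p % r ≠ 1) := by
  obtain ⟨p, e, hrp, ⟨hp, hchar, hcard, hz, hmin⟩, hcase⟩ := h.field
  have hr := h.symplecticType.prime
  rcases hcase with ⟨-, he, hzr, -⟩ | ⟨h2, -⟩ | ⟨h2, -⟩
  · rw [hzr] at hz hmin
    haveI : Fact r.Prime := ⟨hr⟩
    have hiff : ∀ d, r ∣ p ^ d - 1 ↔ ((p : ZMod r)) ^ d = 1 := by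
      intro d
      rw [← Nat.modEq_iff_dvd' (Nat.one_le_pow _ _ hp.pos), ← ZMod.natCast_eq_natCast_iff,
        Nat.cast_pow, Nat.cast_one, eq_comm]
    have hp0 : (p : ZMod r) ≠ 0 := by
      rw [Ne, ZMod.natCast_eq_zero_iff]
      exact fun hd => hrp ((Nat.prime_dvd_prime_iff_eq hr hp).1 hd)
    have he0 : 0 < e := he.pos
    have hpe : (p : ZMod r) ^ e = 1 := (hiff e).1 hz
    have hord : orderOf (p : ZMod r) = e := by
      have hdvd := orderOf_dvd_of_pow_eq_one hpe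
      have hle := Nat.le_of_dvd he0 hdvd
      by_contra hne
      exact hmin (orderOf (p : ZMod r)) (Nat.pos_of_dvd_of_pos hdvd he0) (by omega)
        ((hiff _).2 (pow_orderOf_eq_one _))
    refine ⟨p, e, hp, hchar, hcard, he, ?_, ?_, fun h1 h2 => ?_⟩
    · rw [← hord]
      exact orderOf_dvd_of_pow_eq_one (ZMod.pow_card_sub_one_eq_one hp0)
    · have h3 : ((p ^ e : ℕ) : ZMod r) = ((1 : ℕ) : ZMod r) := by
        rw [Nat.cast_pow, hpe, Nat.cast_one]
      rwa [ZMod.natCast_eq_natCast_iff', Nat.one_mod_eq_one.2 hr.ne_one] at h3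
    · refine hmin 1 one_pos h1 ?_
      rw [hiff, pow_one]
      rw [← ZMod.natCast_mod p r, h2, Nat.cast_one]
  · exact absurd h2 hr2
  · exact absurd h2 hr2

theorem symplectic_two (hn : n ≠ 2) {R : Subgroup (GL (Fin n) F)}
    (h : IsLinearSymplecticTypeData 2 R) :
    ∃ p : ℕ, p.Prime ∧ Fintype.card F = p ∧ p % 4 = 1 := by
  obtain ⟨p, e, -, ⟨hp, -, hcard, hz, -⟩, hcase⟩ := h.field
  rcases hcase with ⟨h2, -⟩ | ⟨-, he, hz4, -⟩ | ⟨-, -, hc, -⟩
  · exact absurd h2 (by decide)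
  · subst he
    rw [pow_one] at hcard hz
    rw [hz4] at hz
    refine ⟨p, hp, hcard, ?_⟩
    have := hp.two_le
    omega
  · exact absurd ((Fintype.card_fin n).symm.trans hc) hn

theorem symplectic_three {R : Subgroup (GL (Fin n) F)} (h : IsLinearSymplecticTypeData 3 R) :
    ∃ p : ℕ, p.Prime ∧ Fintype.card F = p ∧ p % 3 = 1 := by
  obtain ⟨p, e, hp, -, hcard, he, hd, hmod, -⟩ := symplectic_odd (by decide) h
  obtain rfl : e = 1 := by
    have := Nat.le_of_dvd (by decide) hd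
    rcases he with ⟨k, rfl⟩
    omega
  rw [pow_one] at hcard hmod
  exact ⟨p, hp, hcard, hmod⟩

theorem symplectic_five {R : Subgroup (GL (Fin n) F)} (h : IsLinearSymplecticTypeData 5 R) :
    ∃ p : ℕ, p.Prime ∧ Fintype.card F = p ∧ p % 5 = 1 := by
  obtain ⟨p, e, hp, -, hcard, he, hd, hmod, -⟩ := symplectic_odd (by decide) h
  have hle := Nat.le_of_dvd (by decide) hd
  obtain rfl : e = 1 := by
    rcases he with ⟨k, rfl⟩
    have hk : k < 6 := by omega
    interval_cases k <;> omega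
  rw [pow_one] at hcard hmod
  exact ⟨p, hp, hcard, hmod⟩

theorem symplectic_seven {R : Subgroup (GL (Fin n) F)} (h : IsLinearSymplecticTypeData 7 R) :
    ∃ p : ℕ, p.Prime ∧ CharP F p ∧ ((Fintype.card F = p ∧ p % 7 = 1) ∨
      (Fintype.card F = p ^ 3 ∧ (p % 7 = 2 ∨ p % 7 = 4))) := by
  obtain ⟨p, e, hp, hchar, hcard, he, hd, hmod, hne⟩ := symplectic_odd (by decide) h
  have hle := Nat.le_of_dvd (by decide) hd
  obtain rfl | rfl : e = 1 ∨ e = 3 := by
    rcases he with ⟨k, rfl⟩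
    have hk : k < 6 := by omega
    interval_cases k <;> omega
  · rw [pow_one] at hcard hmod
    exact ⟨p, hp, hchar, Or.inl ⟨hcard, hmod⟩⟩
  · refine ⟨p, hp, hchar, Or.inr ⟨hcard, ?_⟩⟩
    have h1 := hne (by decide)
    rw [Nat.pow_mod] at hmod
    have hlt := Nat.mod_lt p (show 7 > 0 by decide)
    interval_cases h7 : p % 7 <;> simp_all

theorem symplectic_eleven {R : Subgroup (GL (Fin n) F)} (h : IsLinearSymplecticTypeData 11 R) :
    ∃ p : ℕ, p.Prime ∧ CharP F p ∧ ((Fintype.card F = p ∧ p % 11 = 1) ∨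
      (Fintype.card F = p ^ 5 ∧ (p % 11 = 3 ∨ p % 11 = 4 ∨ p % 11 = 5 ∨ p % 11 = 9))) := by
  obtain ⟨p, e, hp, hchar, hcard, he, hd, hmod, hne⟩ := symplectic_odd (by decide) h
  have hle := Nat.le_of_dvd (by decide) hd
  obtain rfl | rfl : e = 1 ∨ e = 5 := by
    rcases he with ⟨k, rfl⟩
    have hk : k < 6 := by omega
    interval_cases k <;> omega
  · rw [pow_one] at hcard hmod
    exact ⟨p, hp, hchar, Or.inl ⟨hcard, hmod⟩⟩
  · refine ⟨p, hp, hchar, Or.inr ⟨hcard, ?_⟩⟩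
    have h1 := hne (by decide)
    rw [Nat.pow_mod] at hmod
    have hlt := Nat.mod_lt p (show 11 > 0 by decide)
    interval_cases h7 : p % 11 <;> simp_all

/-- A tensor power with factors of dimension at least three in dimension at most twelve. -/
theorem wreath_small {n m t : ℕ} (hn : n = m ^ t) (hm : 3 ≤ m) (ht : 2 ≤ t) (h12 : n ≤ 12) :
    n = 9 ∧ m = 3 ∧ t = 2 := by
  have h1 : m ^ 2 ≤ m ^ t := Nat.pow_le_pow_right (by omega) ht
  have h2 : m = 3 := by nlinarith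
  subst h2
  have h3 : t < 3 := by
    by_contra h
    have : 3 ^ 3 ≤ 3 ^ t := Nat.pow_le_pow_right (by omega) (by omega)
    omega
  obtain rfl : t = 2 := by omega
  exact ⟨hn, rfl, rfl⟩

end Cfsg.Agent.Aschbacher
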