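/-
In SL_3(4) the normaliser of a cubic field lies in a subfield group over two elements.
-/
import Mathlib
import Cfsg.Agent.Aschbacher.Lists.Main

set_option autoImplicit false
set_option linter.style.haveILetI false

namespace Cfsg.Agent.Aschbacher

open Matrix

variable {F : Type*} [Field F]

/-- The companion matrix of `T³ + T + 1`. -/
def compC (F : Type*) [Field F] : Matrix (Fin 3) (Fin 3) F := !![0, 0, 1; 1, 0, 1; 0, 1, 0]

/-- The Frobenius of the field of eight elements in the basis `1, x, x²`. -/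
def frobPhi (F : Type*) [Field F] : Matrix (Fin 3) (Fin 3) F := !![1, 0, 0; 0, 0, 1; 0, 1, 1]

lemma det_compC : (compC F).det = 1 := by
  simp [compC, Matrix.det_fin_three]

lemma det_frobPhi (h2 : (2 : F) = 0) : (frobPhi F).det = 1 := by
  simp [frobPhi, Matrix.det_fin_three]
  linear_combination (-1 : F) * h2

lemma frobPhi_mul_compC (h2 : (2 : F) = 0) : frobPhi F * compC F = compC F * compC F * frobPhi F := by
  have h11 : (1 : F) + 1 = 0 := by linear_combination h2
  ext i j
  fin_cases i <;> fin_cases j <;>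
    simp [compC, frobPhi, Matrix.mul_apply, Fin.sum_univ_succ, h11]

lemma card_four_facts [Fintype F] (hq : Fintype.card F = 4) :
    CharP F 2 ∧ (2 : F) = 0 ∧ ∃ w : F, w ≠ 0 ∧ w ≠ 1 ∧ w ^ 3 = 1 ∧ w * w + w + 1 = 0 := by
  have hchar : CharP F 2 := by
    obtain ⟨k, hp, hk⟩ := FiniteField.card F (ringChar F)
    have : ringChar F ∣ 2 ^ 2 := by
      rw [show (2 : ℕ) ^ 2 = 4 from rfl, ← hq, hk]
      exact dvd_pow_self _ k.pos.ne'
    have h := (Nat.prime_dvd_prime_iff_eq hp Nat.prime_two).1 (hp.dvd_of_dvd_pow this)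
    exact h ▸ ringChar.charP F
  refine ⟨hchar, CharP.cast_eq_zero F 2, ?_⟩
  classical
  obtain ⟨w, hw⟩ : ∃ w : F, w ∉ ({0, 1} : Finset F) := by
    by_contra h
    push Not at h
    have := Finset.card_le_card (s := (Finset.univ : Finset F)) (t := {0, 1}) (fun x _ => h x)
    rw [Finset.card_univ, hq] at this
    have := Finset.card_le_two (a := (0 : F)) (b := 1)
    omega
  simp only [Finset.mem_insert, Finset.mem_singleton, not_or] at hw
  have h3 : w ^ 3 = 1 := by
    have := FiniteField.pow_card_sub_one_eq_one w hw.1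
    rwa [hq] at this
  refine ⟨w, hw.1, hw.2, h3, ?_⟩
  have : (w - 1) * (w * w + w + 1) = 0 := by linear_combination h3
  exact (mul_eq_zero.1 this).resolve_left (sub_ne_zero.2 hw.2)

/-- In a cubic field over four elements there is a root of `T³ + T + 1`. -/
theorem exists_cubic_root [Fintype F] (hq : Fintype.card F = 4) {n : ℕ}
    {K : Subalgebra F (Matrix (Fin n) (Fin n) F)} (hF : IsField K) [Nonempty (Fin n)]
    (hdim : Module.finrank F K = 3) : ∃ x : K, x ^ 3 = x + 1 := by
  classical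
  letI : Field K := hF.toField
  haveI : Fintype K := Fintype.ofFinite K
  obtain ⟨-, h2, -⟩ := card_four_facts hq
  have h2K : (2 : K) = 0 := by
    have := congrArg (algebraMap F K) h2
    rwa [map_ofNat, map_zero] at this
  have hcard : Fintype.card Kˣ = 63 := by
    rw [Fintype.card_units, ← Nat.card_eq_fintype_card, Module.natCard_eq_pow_finrank (K := F),
      hdim, Nat.card_eq_fintype_card, hq]
    norm_num
  haveI : Fact (Nat.Prime 7) := ⟨by norm_num⟩
  obtain ⟨u, hu⟩ := exists_prime_orderOf_dvd_card 7 (show 7 ∣ Fintype.card Kˣ by rw [hcard]; norm_num)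
  have h7 : (u : K) ^ 7 = 1 := by
    rw [← Units.val_pow_eq_pow_val, ← hu, pow_orderOf_eq_one, Units.val_one]
  have h1 : (u : K) ≠ 1 := fun h => by
    have : u = 1 := Units.ext h
    rw [this, orderOf_one] at hu
    omega
  have h : ((u : K) - 1) * (((u : K) ^ 3 + u + 1) * ((u : K) ^ 3 + (u : K) ^ 2 + 1)) = 0 := by
    linear_combination h7 + ((u : K) ^ 4 - (u : K) ^ 3) * h2K
  rcases mul_eq_zero.1 ((mul_eq_zero.1 h).resolve_left (sub_ne_zero.2 h1)) with h' | h'
  · exact ⟨u, by linear_combination h' - ((u : K) + 1) * h2K⟩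
  · refine ⟨(u : K)⁻¹, ?_⟩
    have hu0 : (u : K) ≠ 0 := u.ne_zero
    field_simp
    linear_combination -h' + h2K

/-- The normaliser of a cubic field, cut with SL_3(4), lies in a subfield group. -/
theorem singer_le_subfield [Fintype F] (hq : Fintype.card F = 4)
    {K : Subalgebra F (Matrix (Fin 3) (Fin 3) F)} (hK : Cfsg.Geo.IsFieldSubalgebra 3 K) :
    ∃ M', IsGoodMember 3 F M' ∧
      Cfsg.Geo.subalgebraNormalizer K ⊓ Cfsg.Geo.specialLinear (Fin 3) F ≤ M' := by
  classical
  obtain ⟨hchar, h2, w, hw0, hw1, hw3, hww⟩ := card_four_facts hq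
  haveI := hchar
  have hF : IsField K :=
    { exists_pair_ne := ⟨0, 1, zero_ne_one⟩
      mul_comm := fun a b => Subtype.ext (hK.comm a a.2 b b.2)
      mul_inv_cancel := fun {a} ha => by
        obtain ⟨y, hy, h⟩ := hK.inv a a.2 fun h => ha (Subtype.ext h)
        exact ⟨⟨y, hy⟩, Subtype.ext h⟩ }
  obtain ⟨x, hx3⟩ := exists_cubic_root hq hF hK.finrank_eq
  letI : Field K := hF.toField
  haveI : Fintype K := Fintype.ofFinite K
  have h2K : (2 : K) = 0 := by
    have := congrArg (algebraMap F K) h2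
    rwa [map_ofNat, map_zero] at this
  have hcard : Fintype.card Kˣ = 63 := by
    rw [Fintype.card_units, ← Nat.card_eq_fintype_card, Module.natCard_eq_pow_finrank (K := F),
      hK.finrank_eq, Nat.card_eq_fintype_card, hq]
    norm_num
  -- independence of 1, x, x²
  have hnscal : ∀ c : F, x ≠ algebraMap F K c := by
    intro c hc
    have h := hx3
    rw [hc, ← map_pow, ← map_one (algebraMap F K), ← map_add] at h
    have h' := (algebraMap F K).injective h
    rcases eq_or_ne c 0 with rfl | hc0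
    · simp at h'
    · have := FiniteField.pow_card_sub_one_eq_one c hc0
      rw [hq] at this
      norm_num at this
      exact hc0 (by linear_combination this - h')
  have hind : ∀ a b c : F, algebraMap F K a + algebraMap F K b * x + algebraMap F K c * x ^ 2 = 0 →
      a = 0 ∧ b = 0 ∧ c = 0 := by
    intro a b c habc
    have hlin : ∀ a b : F, algebraMap F K a + algebraMap F K b * x = 0 → a = 0 ∧ b = 0 := by
      intro a b hab
      rcases eq_or_ne b 0 with rfl | hb
      · rw [map_zero, zero_mul, add_zero] at hab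
        exact ⟨(algebraMap F K).injective (hab.trans (map_zero _).symm), rfl⟩
      · refine absurd ?_ (hnscal (-a / b))
        have hb' : algebraMap F K b ≠ 0 := (map_ne_zero _).2 hb
        rw [map_div₀, map_neg, eq_div_iff hb']
        linear_combination hab
    rcases eq_or_ne c 0 with rfl | hc
    · rw [map_zero, zero_mul, add_zero] at habc
      exact ⟨(hlin a b habc).1, (hlin a b habc).2, rfl⟩
    exfalso
    set α := -a / c with hα
    set β := -b / c with hβ
    have hc' : algebraMap F K c ≠ 0 := (map_ne_zero _).2 hc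
    have hsq : x ^ 2 = algebraMap F K β * x + algebraMap F K α := by
      rw [hα, hβ, map_div₀, map_div₀, map_neg, map_neg]
      field_simp
      linear_combination habc
    have h := hlin (β * α - 1) (β * β + α - 1) (by
      simp only [map_sub, map_add, map_mul, map_one]
      linear_combination hx3 - (x + algebraMap F K β) * hsq)
    have hβ0 : β ≠ 0 := fun h0 => by simp [h0] at h
    have := FiniteField.pow_card_sub_one_eq_one β hβ0
    rw [hq] at this
    norm_num at this
    exact hβ0 (by linear_combination this - (β * h.2 - h.1) + h2)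
  -- the basis v, xv, x²v
  set X : Matrix (Fin 3) (Fin 3) F := (x : Matrix (Fin 3) (Fin 3) F) with hX
  set v : Fin 3 → F := Pi.single 0 1 with hv
  have hv0 : v ≠ 0 := fun h => one_ne_zero (α := F) (by simpa [hv] using congrFun h 0)
  have hkill : ∀ k : K, (k : Matrix (Fin 3) (Fin 3) F) *ᵥ v = 0 → k = 0 := by
    intro k hk
    by_contra hk0
    have h := congrArg (fun z : K => (z : Matrix (Fin 3) (Fin 3) F) *ᵥ v) (inv_mul_cancel₀ hk0)
    simp only [MulMemClass.coe_mul, ← Matrix.mulVec_mulVec, hk, Matrix.mulVec_zero,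
      OneMemClass.coe_one, Matrix.one_mulVec] at h
    exact hv0 h.symm
  set B : Matrix (Fin 3) (Fin 3) F := Matrix.of fun i j => ((X ^ (j : ℕ)) *ᵥ v) i with hB
  have hBcol : ∀ j : Fin 3, B *ᵥ Pi.single j 1 = (X ^ (j : ℕ)) *ᵥ v := fun j => by
    rw [Matrix.mulVec_single_one]; rfl
  have hBco : ∀ co : Fin 3 → F, B *ᵥ co = ((algebraMap F K (co 0) + algebraMap F K (co 1) * x +
      algebraMap F K (co 2) * x ^ 2 : K) : Matrix (Fin 3) (Fin 3) F) *ᵥ v := by
    intro co
    have e : co = co 0 • Pi.single (0 : Fin 3) (1 : F) + co 1 • Pi.single (1 : Fin 3) (1 : F) +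
        co 2 • Pi.single (2 : Fin 3) (1 : F) := by
      funext i
      fin_cases i <;> simp
    conv_lhs => rw [e]
    rw [Matrix.mulVec_add, Matrix.mulVec_add, Matrix.mulVec_smul, Matrix.mulVec_smul, Matrix.mulVec_smul,
      hBcol, hBcol, hBcol]
    simp [Matrix.add_mulVec, Algebra.algebraMap_eq_smul_one, Matrix.smul_mulVec, hX]
  have hBdet : B.det ≠ 0 := by
    intro h
    obtain ⟨c, hc0, hc⟩ := Matrix.exists_mulVec_eq_zero_iff.2 h
    have hk := hkill (algebraMap F K (c 0) + algebraMap F K (c 1) * x + algebraMap F K (c 2) * x ^ 2)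
      (by rw [← hBco]; exact hc)
    obtain ⟨h0, h1, h2⟩ := hind _ _ _ hk
    exact hc0 (funext fun i => by fin_cases i <;> assumption)
  set Bu : GL (Fin 3) F := Matrix.GeneralLinearGroup.mkOfDetNeZero B hBdet with hBu
  have hX3 : X ^ 3 = X + 1 := congrArg Subtype.val hx3
  have hXB : X * B = B * compC F := by
    apply Matrix.ext_col
    intro j
    rw [← Matrix.mulVec_single_one (X * B) j, ← Matrix.mulVec_single_one (B * compC F) j,
      ← Matrix.mulVec_mulVec, ← Matrix.mulVec_mulVec, hBcol, Matrix.mulVec_mulVec, ← pow_succ']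
    fin_cases j <;> simp only [Fin.zero_eta, Fin.mk_one, Fin.reduceFinMk]
    · rw [show (compC F *ᵥ Pi.single (0 : Fin 3) 1) = Pi.single (1 : Fin 3) 1 by
        funext i; fin_cases i <;> simp [compC, Matrix.vecHead, Matrix.vecTail], hBcol]
      rfl
    · rw [show (compC F *ᵥ Pi.single (1 : Fin 3) 1) = Pi.single (2 : Fin 3) 1 by
        funext i; fin_cases i <;> simp [compC, Matrix.vecHead, Matrix.vecTail], hBcol]
      rfl
    · rw [show (compC F *ᵥ Pi.single (2 : Fin 3) 1) = Pi.single (0 : Fin 3) 1 + Pi.single (1 : Fin 3) 1 by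
        funext i; fin_cases i <;> simp [compC, Matrix.vecHead, Matrix.vecTail], Matrix.mulVec_add,
        hBcol, hBcol, ← Matrix.add_mulVec]
      congr 1
      show X ^ 3 = _
      rw [hX3, add_comm]
      simp
  -- the change of basis and the subfield
  set F₀ : Subfield F := ⊥ with hF0
  have hcard0 : Nat.card F₀ = 2 := Subfield.card_bot F 2
  refine ⟨Cfsg.Geo.subfieldSubgroup F₀ Bu, Or.inr (Or.inr (Or.inr (Or.inr (Or.inl
    ⟨F₀, 2, Bu, Nat.prime_two, by rw [hcard0, hq]; rfl, rfl⟩)))), ?_⟩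
  have hC0 : (compC F).det ≠ 0 := by rw [det_compC]; exact one_ne_zero
  have hP0 : (frobPhi F).det ≠ 0 := by rw [det_frobPhi h2]; exact one_ne_zero
  set Cu : GL (Fin 3) F := Matrix.GeneralLinearGroup.mkOfDetNeZero (compC F) hC0 with hCu
  set Pu : GL (Fin 3) F := Matrix.GeneralLinearGroup.mkOfDetNeZero (frobPhi F) hP0 with hPu
  have h20 : (2 : F₀) = 0 := Subtype.ext h2
  have hrange : Cu ∈ (Matrix.GeneralLinearGroup.map (F₀.subtype : F₀ →+* F)).range ∧
      Pu ∈ (Matrix.GeneralLinearGroup.map (F₀.subtype : F₀ →+* F)).range := by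
    constructor
    · refine ⟨Matrix.GeneralLinearGroup.mkOfDetNeZero (compC F₀) (by rw [det_compC]; exact one_ne_zero),
        Units.ext ?_⟩
      ext i j
      show F₀.subtype (compC F₀ i j) = compC F i j
      fin_cases i <;> fin_cases j <;> simp [compC]
    · refine ⟨Matrix.GeneralLinearGroup.mkOfDetNeZero (frobPhi F₀)
        (by rw [det_frobPhi h20]; exact one_ne_zero), Units.ext ?_⟩
      ext i j
      show F₀.subtype (frobPhi F₀ i j) = frobPhi F i j
      fin_cases i <;> fin_cases j <;> simp [frobPhi]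
  set Q := Bu * Pu * Bu⁻¹ with hQ
  have hXeq : X = conjMat Bu (compC F) :=
    ((conjMat_eq_iff_mul Bu (compC F) X).2 (by rw [hBu]; exact hXB.symm)).symm
  have hQX : ∀ j : ℕ, conjMat (Q ^ j) X = X ^ 2 ^ j := by
    have h1 : conjMat Q X = X ^ 2 := by
      have hP : conjMat Pu (compC F) = compC F ^ 2 := (conjMat_eq_iff_mul Pu _ _).2 (by
        rw [pow_two]; exact frobPhi_mul_compC h2)
      rw [hXeq, ← map_pow, hQ, conjMat_mul, conjMat_mul, conjMat_inv_apply, hP]
    intro j
    induction j with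
    | zero => simp [conjMat_apply]
    | succ j ih =>
      rw [pow_succ', conjMat_mul, ih, map_pow, h1, ← pow_mul, pow_succ']
  intro g hg
  obtain ⟨hgK, hgdet⟩ := hg
  -- g maps x to a conjugate
  set y : K := ⟨conjMat g X, (hgK X).1 x.2⟩ with hy
  have hy3 : y ^ 3 = y + 1 := Subtype.ext (by
    show conjMat g X ^ 3 = conjMat g X + 1
    rw [← map_pow, hX3, map_add, map_one])
  have hx4 : x ^ 4 = x ^ 2 + x := by linear_combination x * hx3
  have hx5 : x ^ 5 = x ^ 2 + x + 1 := by linear_combination x ^ 2 * hx3 + hx3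
  have hx6 : x ^ 6 = x ^ 2 + 2 * x + 1 := by linear_combination (x ^ 3 + x + 1) * hx3
  have hx7 : x ^ 7 = 2 * x ^ 2 + 2 * x + 1 := by
    linear_combination x * hx6 + hx3
  have hroots : (y - x) * ((y - x ^ 2) * (y - x ^ 4)) = 0 := by
    linear_combination hy3 + (-(x + x ^ 2) * y ^ 2 + (x ^ 2 + 2 * x + 2) * y - (x ^ 2 + x)) * h2K +
      (-(y ^ 2)) * hx4 + y * hx3 + y * hx5 + y * hx6 - hx7
  obtain ⟨j, hj⟩ : ∃ j : ℕ, y = x ^ 2 ^ j := by
    rcases mul_eq_zero.1 hroots with h | h
    · exact ⟨0, by simpa using sub_eq_zero.1 h⟩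
    rcases mul_eq_zero.1 h with h | h
    · exact ⟨1, by simpa using sub_eq_zero.1 h⟩
    · exact ⟨2, by simpa using sub_eq_zero.1 h⟩
  have hgX : conjMat g X = X ^ 2 ^ j := congrArg Subtype.val hj
  set h := (Q ^ j)⁻¹ * g with hh
  have hhX : (h : Matrix (Fin 3) (Fin 3) F) * X = X * (h : Matrix (Fin 3) (Fin 3) F) :=
    (conjMat_eq_self_iff h X).1 (by rw [hh, conjMat_mul, hgX, ← hQX, conjMat_inv_apply])
  -- h lies in K
  set co := ((Bu⁻¹ : GL (Fin 3) F) : Matrix (Fin 3) (Fin 3) F) *ᵥ ((h : Matrix (Fin 3) (Fin 3) F) *ᵥ v)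
    with hco
  set k0 : K := algebraMap F K (co 0) + algebraMap F K (co 1) * x + algebraMap F K (co 2) * x ^ 2
  have hhk : (h : Matrix (Fin 3) (Fin 3) F) = (k0 : Matrix (Fin 3) (Fin 3) F) := by
    have hzero : ((h : Matrix (Fin 3) (Fin 3) F) - (k0 : Matrix (Fin 3) (Fin 3) F)) *ᵥ v = 0 := by
      have h1 : B *ᵥ co = (h : Matrix (Fin 3) (Fin 3) F) *ᵥ v := by
        rw [hco, Matrix.mulVec_mulVec, show B = ((Bu : GL (Fin 3) F) : Matrix (Fin 3) (Fin 3) F) from rfl,
          Units.mul_inv, Matrix.one_mulVec]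
      rw [Matrix.sub_mulVec, ← h1, sub_eq_zero]
      exact hBco co
    have hcomm : Commute ((h : Matrix (Fin 3) (Fin 3) F) - (k0 : Matrix (Fin 3) (Fin 3) F)) X :=
      (show Commute _ X from hhX).sub_left (congrArg Subtype.val (mul_comm k0 x) : _)
    have hMB : ((h : Matrix (Fin 3) (Fin 3) F) - (k0 : Matrix (Fin 3) (Fin 3) F)) * B = 0 := by
      apply Matrix.ext_col
      intro j
      rw [← Matrix.mulVec_single_one _ j, ← Matrix.mulVec_mulVec, hBcol, Matrix.mulVec_mulVec,
        (hcomm.pow_right _).eq, ← Matrix.mulVec_mulVec, hzero, Matrix.mulVec_zero]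
      rfl
    have h3 := congrArg (· * ((Bu⁻¹ : GL (Fin 3) F) : Matrix (Fin 3) (Fin 3) F)) hMB
    simp only [mul_assoc, zero_mul] at h3
    rw [show B = ((Bu : GL (Fin 3) F) : Matrix (Fin 3) (Fin 3) F) from rfl, Units.mul_inv, mul_one] at h3
    exact sub_eq_zero.1 h3
  have hk0 : k0 ≠ 0 := by
    intro h0
    rw [h0] at hhk
    exact h.ne_zero hhk
  -- determinant one forces order dividing 21
  let D : Kˣ →* F := (Matrix.detMonoidHom.comp K.val.toRingHom.toMonoidHom).comp (Units.coeHom K)
  set u := Units.mk0 k0 hk0 with hu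
  have hDu : D u = 1 := by
    show (k0 : Matrix (Fin 3) (Fin 3) F).det = 1
    have hQdet : ((Q : GL (Fin 3) F) : Matrix (Fin 3) (Fin 3) F).det = 1 := by
      rw [hQ, Units.val_mul, Units.val_mul, Matrix.det_units_conj]
      exact det_frobPhi h2
    have hQj : (Q ^ j)⁻¹ ∈ Cfsg.Geo.specialLinear (Fin 3) F :=
      inv_mem (pow_mem (mem_specialLinear.2 hQdet) j)
    rw [← hhk]
    exact mem_specialLinear.1 (mul_mem hQj hgdet)
  have hu21 : u ^ 21 = 1 := by
    obtain ⟨z, hz⟩ := IsCyclic.exists_generator (α := Kˣ)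
    have hzord : orderOf z = 63 := by
      rw [orderOf_eq_card_of_forall_mem_zpowers hz, Nat.card_eq_fintype_card, hcard]
    obtain ⟨i, hiu⟩ : ∃ i : ℕ, z ^ i = u := by
      have := (mem_powers_iff_mem_zpowers).2 (hz u)
      exact this
    have hDz : D z ≠ 1 := by
      intro h1
      have hall : ∀ a : Kˣ, D a = 1 := fun a => by
        obtain ⟨l, rfl⟩ : ∃ l : ℕ, z ^ l = a := (mem_powers_iff_mem_zpowers).2 (hz a)
        rw [map_pow, h1, one_pow]
      have hne : algebraMap F K w + x ≠ 0 := fun h0 => by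
        have := hind w 1 0 (by rw [map_one, one_mul, map_zero, zero_mul, add_zero]; exact h0)
        exact one_ne_zero this.2.1
      have h5 : (algebraMap F (Matrix (Fin 3) (Fin 3) F) w + X).det = 1 := hall (Units.mk0 _ hne)
      rw [hXeq, Algebra.algebraMap_eq_smul_one, ← map_one (conjMat Bu), ← map_smul, ← map_add,
        conjMat_apply, Matrix.det_units_conj, Matrix.det_fin_three] at h5
      simp [compC] at h5
      exact hw1 (by linear_combination hw3 - h5)
    have hord : orderOf (D z) = 3 := by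
      refine orderOf_eq_prime ?_ hDz
      have hne0 : D z ≠ 0 := ((Units.map D).comp toUnits.toMonoidHom z).ne_zero
      have := FiniteField.pow_card_sub_one_eq_one (D z) hne0
      rwa [hq] at this
    rw [← hiu, map_pow] at hDu
    obtain ⟨l, rfl⟩ : 3 ∣ i := hord ▸ orderOf_dvd_of_pow_eq_one hDu
    rw [← hiu, ← pow_mul, show 3 * l * 21 = 63 * l by ring, pow_mul, ← hzord, pow_orderOf_eq_one, one_pow]
  have hk21 : k0 ^ 21 = 1 := congrArg Units.val hu21
  obtain ⟨c, hc⟩ : ∃ c : F, k0 ^ 7 = algebraMap F K c := by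
    set s := k0 ^ 7 with hs
    have hs3 : s ^ 3 = 1 := by rw [hs, ← pow_mul]; exact hk21
    have hwK : algebraMap F K w * algebraMap F K w + algebraMap F K w + 1 = 0 := by
      rw [← map_mul, ← map_add, ← map_one (algebraMap F K), ← map_add, hww, map_zero]
    have hw3K : algebraMap F K w ^ 3 = 1 := by rw [← map_pow, hw3, map_one]
    have : (s - algebraMap F K 1) * ((s - algebraMap F K w) * (s - algebraMap F K (w * w))) = 0 := by
      rw [map_one, map_mul]
      linear_combination hs3 + (-(s ^ 2) + algebraMap F K w * s) * hwK - hw3K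
    rcases mul_eq_zero.1 this with h' | h'
    · exact ⟨1, sub_eq_zero.1 h'⟩
    rcases mul_eq_zero.1 h' with h' | h'
    · exact ⟨w, sub_eq_zero.1 h'⟩
    · exact ⟨w * w, sub_eq_zero.1 h'⟩
  obtain ⟨i, hi⟩ : ∃ i : ℕ, x ^ i = k0 ^ 15 := by
    have hx71 : x ^ 7 = 1 := by linear_combination hx7 + (x ^ 2 + x) * h2K
    have hprim : IsPrimitiveRoot x 7 := by
      have hne : x ≠ 1 := fun h1 => hnscal 1 (by rw [h1, map_one])
      haveI : Fact (Nat.Prime 7) := ⟨by norm_num⟩
      rw [← orderOf_eq_prime hx71 hne]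
      exact IsPrimitiveRoot.orderOf x
    obtain ⟨i, -, hi⟩ := hprim.eq_pow_of_pow_eq_one (ξ := k0 ^ 15) (by
      rw [← pow_mul, show 15 * 7 = 21 * 5 from rfl, pow_mul, hk21, one_pow])
    exact ⟨i, hi⟩
  have hk : k0 = algebraMap F K c * x ^ i := by
    rw [← hc, hi, ← pow_add, show 7 + 15 = 21 + 1 from rfl, pow_succ, hk21, one_mul]
  have hc0 : c ≠ 0 := by
    rintro rfl
    rw [map_zero, zero_mul] at hk
    exact hk0 hk
  have hgeq : g = Bu * ((Pu ^ j * Cu ^ i) * scalarUnit (Fin 3) F (Units.mk0 c hc0)) * Bu⁻¹ := by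
    have hXu : (h : GL (Fin 3) F) = Bu * (Cu ^ i * scalarUnit (Fin 3) F (Units.mk0 c hc0)) * Bu⁻¹ := by
      apply Units.ext
      rw [hhk, hk, MulMemClass.coe_mul, Subalgebra.coe_algebraMap, SubmonoidClass.coe_pow, ← hX, hXeq,
        ← map_pow]
      simp only [Units.val_mul, Units.val_pow_eq_pow_val, scalarUnit_coe, Units.val_mk0,
        conjMat_apply, Algebra.algebraMap_eq_smul_one, Matrix.smul_mul, Matrix.mul_smul, one_mul,
        mul_one]
      rfl
    calc g = Q ^ j * h := by rw [hh, mul_inv_cancel_left]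
      _ = _ := by rw [hXu, hQ, conj_pow]; group
  rw [hgeq, Cfsg.Geo.subfieldSubgroup]
  refine ⟨_, ?_, by rw [MulEquiv.coe_toMonoidHom, MulAut.conj_apply]⟩
  exact Subgroup.mul_mem _
    (Subgroup.mem_sup_left (mul_mem (pow_mem hrange.2 j) (pow_mem hrange.1 i)))
    (Subgroup.mem_sup_right (scalarUnit_mem _))

end Cfsg.Agent.Aschbacher
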